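import Cfsg.Agent.Lib.Mathieu.OuterAut

/-!
# Automorphisms of a group containing `M₂₃`

In a finite group `H` with `23² ∤ |H|` and an injective `ι : M23 →* H` such that `C(ι x) = ⟨ι x⟩`
and `C(ι y)` consists of powers of `ι y` times a set of elements commuting with `ι y, ι t` and
without elements of order 5, every outer class has an automorphism fixing the image of `ι`.

* `X`, `Y`, `T`: the elements of the rigidity certificate of `M23`;
* `exists_fix`.
-/

set_option autoImplicit false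
set_option maxRecDepth 20000

namespace Cfsg.Agent.ConwayOut

open Cfsg Cfsg.Agent.Mathieu

/-- The element of order 23. -/
noncomputable def X : Spor.M23 :=
  ⟨(rigid_mem23 rigid23.x (by simp)).choose, (rigid_mem23 rigid23.x (by simp)).choose_spec.1⟩

/-- The element of order 11 normalising `⟨X⟩`. -/
noncomputable def Y : Spor.M23 :=
  ⟨(rigid_mem23 rigid23.y (by simp)).choose, (rigid_mem23 rigid23.y (by simp)).choose_spec.1⟩

/-- The element of order 5 normalising `⟨Y⟩`. -/
noncomputable def T : Spor.M23 :=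
  ⟨(rigid_mem23 rigid23.t (by simp)).choose, (rigid_mem23 rigid23.t (by simp)).choose_spec.1⟩

theorem rep_X : Rep ptEnc (X : Equiv.Perm GolayPt) rigid23.x :=
  (rigid_mem23 rigid23.x (by simp)).choose_spec.2

theorem rep_Y : Rep ptEnc (Y : Equiv.Perm GolayPt) rigid23.y :=
  (rigid_mem23 rigid23.y (by simp)).choose_spec.2

theorem rep_T : Rep ptEnc (T : Equiv.Perm GolayPt) rigid23.t :=
  (rigid_mem23 rigid23.t (by simp)).choose_spec.2

theorem eq_of_samePack {a b : Spor.M23} {l m : ℕ} (ha : Rep ptEnc (a : Equiv.Perm GolayPt) l)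
    (hb : Rep ptEnc (b : Equiv.Perm GolayPt) m) (h : samePack 24 l m = true) : a = b :=
  Subtype.ext ((ha.of_same h).unique hb)

theorem rep_pow {a : Spor.M23} {l : ℕ} (ha : Rep ptEnc (a : Equiv.Perm GolayPt) l) (k : ℕ) :
    Rep ptEnc ((a ^ k : Spor.M23) : Equiv.Perm GolayPt) (packPow 24 l k) :=
  rep_packPow (by norm_num) ha k

theorem rep_mul {a b : Spor.M23} {l m : ℕ} (ha : Rep ptEnc (a : Equiv.Perm GolayPt) l)
    (hb : Rep ptEnc (b : Equiv.Perm GolayPt) m) :
    Rep ptEnc ((a * b : Spor.M23) : Equiv.Perm GolayPt) (packMul 24 l m) :=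
  rep_packMul ha hb

theorem orderOf_X : orderOf X = 23 := by
  have : Fact (Nat.Prime 23) := ⟨by norm_num⟩
  refine orderOf_eq_prime (Subtype.ext ((rep_pow rep_X 23).eq_one (by decide +kernel))) fun h => ?_
  have h1 := rep_X.isId_of_eq_one (congrArg Subtype.val h)
  rw [show isId 24 rigid23.x = false by decide +kernel] at h1
  exact absurd h1 (by simp)

theorem Y_conj_X : Y * X * Y⁻¹ = X ^ 2 := by
  rw [mul_inv_eq_iff_eq_mul]
  exact eq_of_samePack (rep_mul rep_Y rep_X) (rep_mul (rep_pow rep_X 2) rep_Y) (by decide +kernel)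

theorem T_mul_Y : T * Y = Y ^ 3 * T :=
  eq_of_samePack (rep_mul rep_T rep_Y) (rep_mul (rep_pow rep_Y 3) rep_T) (by decide +kernel)

theorem Y_pow : Y ^ 11 = 1 := Subtype.ext ((rep_pow rep_Y 11).eq_one (by decide +kernel))

theorem TY_pow_five : ∀ i < 11, (T * Y ^ i) ^ 5 = 1 := by
  intro i hi
  refine Subtype.ext ((rep_pow (rep_mul rep_T (rep_pow rep_Y i)) 5).eq_one ?_)
  revert i; decide +kernel

theorem dense : Subgroup.closure ({X, T} : Set Spor.M23) = ⊤ := by
  have hXT : ∀ w, sylProd X T w ∈ Subgroup.closure ({X, T} : Set Spor.M23) := fun w =>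
    Subgroup.list_prod_mem _ fun z hz => by
      obtain ⟨ab, -, rfl⟩ := List.mem_map.1 hz
      exact Subgroup.mul_mem _ (Subgroup.pow_mem _ (Subgroup.subset_closure (by simp)) _)
        (Subgroup.pow_mem _ (Subgroup.subset_closure (by simp)) _)
  have hwords : ∀ l ∈ gens23, ∃ w ∈ rigid23.words,
      samePack 24 (sylPack 24 rigid23.x rigid23.t w) l = true := by decide +kernel
  have hle : Spor.M23 ≤ (Subgroup.closure ({X, T} : Set Spor.M23)).map Spor.M23.subtype := by
    refine M23_cert.1.symm.le.trans (genGroup_le fun σ l hl hσ => ?_)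
    obtain ⟨w, -, hw⟩ := hwords l hl
    refine ⟨sylProd X T w, hXT w, ?_⟩
    rw [map_sylProd]
    exact ((rep_sylPack (by norm_num) rep_X rep_T w).of_same hw).unique hσ
  rw [eq_top_iff]
  intro z _
  obtain ⟨z', hz', h⟩ := hle z.2
  rwa [← Subtype.ext h]

/-- Every candidate image of `(X, T)` other than `(X, T)` violates a relation. -/
theorem candidates : ∀ a ∈ [1, 5], ∀ i < 11,
    (a = 1 ∧ i = 0) ∨ ∃ rel ∈ rigid23.rels, separates 24 rigid23.x rigid23.t
      (packPowS 24 rigid23.x a) (packMulS 24 rigid23.t (packPowS 24 rigid23.y i)) rel = true := by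
  decide +kernel

/-- An automorphism of a group containing `M23` can be adjusted to fix `M23` elementwise. -/
theorem exists_fix {H : Type*} [Group H] [Finite H] (ι : Spor.M23 →* H) (hι : Function.Injective ι)
    (hp2 : ¬ 23 ^ 2 ∣ Nat.card H)
    (hX : ∀ g : H, g * ι X = ι X * g → ∃ k, k < 23 ∧ g = ι X ^ k) (E : Set H)
    (hY : ∀ c : H, c * ι Y = ι Y * c → ∃ i < 11, ∃ e ∈ E, c = ι Y ^ i * e)
    (hEY : ∀ e ∈ E, Commute e (ι Y)) (hET : ∀ e ∈ E, Commute e (ι T))
    (hE5 : ∀ e ∈ E, e ^ 5 = 1 → e = 1) (φ : MulAut H) :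
    ∃ ψ : MulAut H, (ψ : Cfsg.Out H) = (φ : Cfsg.Out H) ∧ ∀ m, ψ (ι m) = ι m := by
  have hord : orderOf (ι X) = 23 := by rw [orderOf_injective ι hι, orderOf_X]
  have hact : ι Y * ι X * (ι Y)⁻¹ = ι X ^ 2 := by
    rw [← map_inv, ← map_mul, ← map_mul, Y_conj_X, map_pow]
  obtain ⟨ψ, hψ, a, ha, hψx, hψy⟩ := exists_normalised (r := 2) (s := 12) (R := [1, 5])
    (by norm_num : Nat.Prime 23) (by decide +kernel) hord hp2 hX hact φ
  refine ⟨ψ, hψ, ?_⟩
  have hTY : ι T * ι Y = ι Y ^ 3 * ι T := by rw [← map_pow, ← map_mul, ← map_mul, T_mul_Y]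
  have hψTY := congrArg ψ hTY
  rw [map_mul, map_mul, map_pow, hψy] at hψTY
  have hTinv : (ι T)⁻¹ * ι Y ^ 3 = ι Y * (ι T)⁻¹ := by
    rw [inv_mul_eq_iff_eq_mul, ← mul_assoc, eq_mul_inv_iff_mul_eq, hTY]
  obtain ⟨i, hi, e, he, hc⟩ := hY ((ι T)⁻¹ * ψ (ι T)) (by
    rw [mul_assoc, hψTY, ← mul_assoc, hTinv, mul_assoc])
  have hψT : ψ (ι T) = ι (T * Y ^ i) * e := by
    rw [map_mul, map_pow, mul_assoc, ← hc, mul_inv_cancel_left]
  have hcomm : Commute (ι (T * Y ^ i)) e := by
    rw [map_mul, map_pow]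
    exact ((hET e he).symm).mul_left (((hEY e he).symm).pow_left i)
  have he1 : e = 1 := hE5 e he <| by
    have h5 : ψ (ι T) ^ 5 = 1 := by
      have := TY_pow_five 0 (by norm_num)
      rw [pow_zero, mul_one] at this
      rw [← map_pow, ← map_pow, this, map_one, map_one]
    rwa [hψT, hcomm.mul_pow, ← map_pow, TY_pow_five i hi, map_one, one_mul] at h5
  rw [he1, mul_one] at hψT
  rcases candidates a ha i hi with ⟨rfl, rfl⟩ | ⟨rel, -, hsep⟩
  · rw [pow_one] at hψx
    rw [pow_zero, mul_one] at hψT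
    have heq : ψ.toMonoidHom.comp ι = ι :=
      MonoidHom.eq_of_eqOn_dense dense fun z hz => by
        rcases hz with rfl | rfl
        · exact hψx
        · exact hψT
    exact fun m => DFunLike.congr_fun heq m
  · simp only [separates, isIdS, force_eq, packPowS_eq, packMulS_eq, Bool.and_eq_true,
      Bool.not_eq_eq_eq_not, Bool.not_true] at hsep
    have h1 := (rep_packPow (n := 24) (by norm_num)
      (rep_sylPack (by norm_num) rep_X rep_T rel.1) rel.2).eq_one hsep.1
    have h2 : sylProd X T rel.1 ^ rel.2 = 1 := by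
      refine Subtype.ext ?_
      rw [SubgroupClass.coe_pow, OneMemClass.coe_one,
        show ((sylProd X T rel.1 : Spor.M23) : Equiv.Perm GolayPt) = sylProd (X : Equiv.Perm GolayPt) T rel.1
          from map_sylProd Spor.M23.subtype X T rel.1]
      exact h1
    have h3 : sylProd (X ^ a) (T * Y ^ i) rel.1 ^ rel.2 = 1 := by
      refine hι ?_
      rw [map_pow, map_sylProd, map_pow ι X a, ← hψx, ← hψT, ← map_sylProd ψ,
        ← map_sylProd ι, ← map_pow, ← map_pow, h2, map_one, map_one]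
    have h4 := (rep_packPow (n := 24) (by norm_num) (rep_sylPack (by norm_num) (rep_pow rep_X a)
      (rep_mul rep_T (rep_pow rep_Y i)) rel.1) rel.2).isId_of_eq_one (by
        have h5 := congrArg Spor.M23.subtype h3
        rwa [map_pow, map_sylProd, map_one] at h5)
    rw [hsep.2] at h4
    exact absurd h4 (by simp)

end Cfsg.Agent.ConwayOut
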