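import Cfsg.Agent.Lib.ConwayOut.Data
import Cfsg.Agent.Lib.ConwayOut.Rigid
import Cfsg.Agent.Lib.Leech.Co2Group

/-!
# The centraliser of an element of order 11 in `Co0`

* `perm0`: the copy of `M23` in `Co0`; its elements `X`, `Y`, `T` as words;
* `cent_Y`: `C(Y)` is `⟨Y⟩` times twelve explicit words commuting with `Y` and `T`.
-/

set_option autoImplicit false
set_option maxRecDepth 20000

namespace Cfsg.Agent.ConwayOut

open Cfsg Cfsg.Agent.Leech Finset

/-- Both words are evaluated and agree on all `8 eᵢ`. -/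
def eqB (L L' : List Gen) : Bool :=
  (List.range 24).all fun i =>
    match evalW L' (unitV 8 i) with
    | none => false
    | some W => sendsB L (unitV 8 i) W

theorem eqB_spec {L L' : List Gen} (h1 : L.all Gen.ok = true) (h2 : L'.all Gen.ok = true)
    (h : eqB L L' = true) : wordEl L = wordEl L' := by
  simp only [eqB, List.all_eq_true, List.mem_range] at h
  refine co0_ext _ _ fun p => Subtype.ext ?_
  have hp := h _ (Mathieu.ptEnc p).isLt
  split at hp
  · simp at hp
  · rename_i W hW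
    rw [sendsB_spec h1 hp (dec8_unitV p).symm, evalW_spec L' h2 _ W _ (dec8_unitV p).symm hW]

/-- The word moves the vector. -/
def movesB (L : List Gen) (V : ℕ) : Bool :=
  match evalW L V with
  | none => false
  | some W => (List.range 24).any fun n => dig8 W n != dig8 V n

theorem movesB_spec {L : List Gen} (hok : L.all Gen.ok = true) {V : ℕ} (h : movesB L V = true)
    {v : leechLattice} (hv : (v : GolayPt → ℤ) = dec8 V) : wordEl L • v ≠ v := by
  simp only [movesB] at h
  split at h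
  · simp at h
  · rename_i W hW
    simp only [List.any_eq_true, List.mem_range, bne_iff_ne] at h
    obtain ⟨n, hn, hne⟩ := h
    obtain ⟨p, rfl⟩ : ∃ p, (Mathieu.ptEnc p).val = n :=
      ⟨Mathieu.ptEnc.symm ⟨n, hn⟩, by simp⟩
    intro he
    have e := evalW_spec L hok V W v hv hW
    rw [he, hv] at e
    exact hne (congrFun e p).symm

/-- The copy of `M23` in `Co0`. -/
noncomputable def perm0 : Spor.M23 →* Co0 :=
  permHom.comp (Subgroup.inclusion Mathieu.M23_le_M24)

theorem perm0_injective : Function.Injective perm0 := by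
  intro σ τ h
  refine Subtype.ext (Equiv.ext fun p => ?_)
  have h1 := congrArg (fun g : Co0 =>
    ((g • eight p : leechLattice) : GolayPt → ℤ) ((σ : Equiv.Perm GolayPt) p)) h
  simp only [perm0, MonoidHom.comp_apply, permHom_apply, eight_val, Subgroup.coe_inclusion,
    Equiv.symm_apply_apply, Pi.single_eq_same] at h1
  by_contra hne
  rw [Pi.single_eq_of_ne] at h1
  · norm_num at h1
  · intro e
    exact hne ((Equiv.symm_apply_eq _).1 e)

theorem perm0_eq_el {σ : Spor.M23} {l m : ℕ}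
    (h : Mathieu.Rep Mathieu.ptEnc (σ : Equiv.Perm GolayPt) l)
    (hm : (Mathieu.permOK 24 m && Mathieu.isId 24 (Mathieu.packMul 24 l m)) = true)
    (hok : monoOK (m, 0) = true) : perm0 σ = el [(m, 0)] := by
  rw [Bool.and_eq_true] at hm
  obtain ⟨τ, hτ⟩ := Mathieu.exists_rep (e := Mathieu.ptEnc) hm.1
  have e := eq_inv_of_mul_eq_one_right ((Mathieu.rep_packMul h hτ).eq_one hm.2)
  exact permHom_eq_el (σ := Subgroup.inclusion Mathieu.M23_le_M24 σ) (e ▸ hτ) hok

theorem perm0_X : perm0 X = wordEl [genX] := by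
  rw [wordEl_singleton]
  exact perm0_eq_el rep_X (by decide +kernel) (by decide +kernel)

theorem perm0_Y : perm0 Y = wordEl [genY] := by
  rw [wordEl_singleton]
  exact perm0_eq_el rep_Y (by decide +kernel) (by decide +kernel)

theorem perm0_T : perm0 T = wordEl [genT] := by
  rw [wordEl_singleton]
  exact perm0_eq_el rep_T (by decide +kernel) (by decide +kernel)

theorem perm0_smul (σ : Spor.M23) (v : leechLattice) (p : GolayPt) :
    ((perm0 σ • v : leechLattice) : GolayPt → ℤ) p =
      (v : GolayPt → ℤ) ((σ : Equiv.Perm GolayPt).symm p) :=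
  permHom_apply _ v p

/-- Cosets of the monomial part. -/
def cosetWords : List (List Gen) := [[], [genG], [genD, genG]]

/-- The monomial part. -/
def signWords : List (List Gen) := [[], [genD], [genN], [genN, genD]]

/-- The twelve words. -/
def centWords : List (List Gen) := cosetWords.flatMap fun e => signWords.map fun s => e ++ s

theorem gens_ok : ∀ g ∈ [genX, genY, genT, genG, genD, genN, genP], g.ok = true := by decide +kernel

theorem centWords_ok : ∀ L ∈ centWords, L.all Gen.ok = true := by decide +kernel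

theorem words_ok : (∀ L ∈ cosetWords, L.all Gen.ok = true) ∧
    ∀ L ∈ signWords, L.all Gen.ok = true := by decide +kernel

-- the kernel evaluates 48 products on the 24 unit vectors
set_option maxHeartbeats 4000000 in
theorem centWords_comm : ∀ L ∈ centWords, Commute (wordEl L) (perm0 Y) ∧
    Commute (wordEl L) (perm0 T) := by
  have h : ∀ L ∈ centWords, (L ++ [genY]).all Gen.ok = true ∧ ([genY] ++ L).all Gen.ok = true ∧
      eqB (L ++ [genY]) ([genY] ++ L) = true ∧ (L ++ [genT]).all Gen.ok = true ∧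
      ([genT] ++ L).all Gen.ok = true ∧ eqB (L ++ [genT]) ([genT] ++ L) = true := by decide +kernel
  intro L hL
  obtain ⟨a1, a2, a3, b1, b2, b3⟩ := h L hL
  rw [perm0_Y, perm0_T]
  constructor
  · unfold Commute SemiconjBy
    rw [← wordEl_append, ← wordEl_append]
    exact eqB_spec a1 a2 a3
  · unfold Commute SemiconjBy
    rw [← wordEl_append, ← wordEl_append]
    exact eqB_spec b1 b2 b3

/-- The four orbits of `Y`. -/
def orbitVal {α : Type*} (a b c d : α) (n : ℕ) : α :=
  if n = 23 then a else if n = 22 then b else if maskQ.testBit n then c else d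

theorem orbit_rep : ∀ p : GolayPt, ∃ k < 11, ∃ r ∈ [23, 22, 0, 4],
    (Mathieu.ptEnc p).val = Mathieu.app (Mathieu.packPowS 24 Mathieu.rigid23.y k) r ∧
      orbitVal 23 22 0 4 (Mathieu.ptEnc p).val = r := by
  decide +kernel

theorem orbitVal_map {α β : Type*} (f : α → β) (a b c d : α) (n : ℕ) :
    f (orbitVal a b c d n) = orbitVal (f a) (f b) (f c) (f d) n := by
  unfold orbitVal; split_ifs <;> rfl

theorem const_on_orbits {α : Type*} (f : GolayPt → α)
    (hf : ∀ q, f ((Y : Equiv.Perm GolayPt) q) = f q) (p : GolayPt) :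
    f p = orbitVal (f (Mathieu.idx Mathieu.ptEnc 23)) (f (Mathieu.idx Mathieu.ptEnc 22))
      (f (Mathieu.idx Mathieu.ptEnc 0)) (f (Mathieu.idx Mathieu.ptEnc 4)) (Mathieu.ptEnc p).val := by
  have hk : ∀ (k : ℕ) (q : GolayPt), f (((Y ^ k : Spor.M23) : Equiv.Perm GolayPt) q) = f q := by
    intro k
    induction k with
    | zero => intro q; rfl
    | succ k ih =>
      intro q
      rw [pow_succ', Subgroup.coe_mul, Equiv.Perm.mul_apply, hf, ih]
  obtain ⟨k, -, r, hr, h1, h2⟩ := orbit_rep p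
  rw [← orbitVal_map (fun i => f (Mathieu.idx Mathieu.ptEnc i)), h2]
  have hr24 : r < 24 := by simp at hr; omega
  rw [Mathieu.packPowS_eq] at h1
  have h3 := (rep_pow rep_Y k).apply_idx hr24
  rw [← h1, Mathieu.idx_self] at h3
  rw [← h3]
  exact hk k _

theorem sum_orbitVal (a b c d : ℤ) :
    ∑ p : GolayPt, orbitVal a b c d (Mathieu.ptEnc p).val ^ 2 =
      a ^ 2 + b ^ 2 + 11 * c ^ 2 + 11 * d ^ 2 := by
  rw [Equiv.sum_comp Mathieu.ptEnc (fun i : Fin 24 => orbitVal a b c d i.val ^ 2)]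
  simp [Fin.sum_univ_succ, orbitVal, maskQ, Nat.testBit]
  ring

/-! ### Fixed vectors of norm 64 -/

/-- Necessary conditions for membership in the lattice. -/
def lattB (V : ℕ) : Bool :=
  ((List.range 24).all fun n => dig8 V n % 2 == dig8 V 23 % 2) &&
    (((List.range 24).map (dig8 V)).sum % 8 == 4 * dig8 V 23 % 8) &&
    Mathieu.codeBasis.all fun m =>
      ((List.range 24).filter fun n => m.testBit n && dig8 V n / 2 % 2 == 1).length % 2 == 0

theorem lattB_of_inL {V : ℕ} (h : InL (dec8 V)) : lattB V = true := by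
  obtain ⟨h1, h2, h3⟩ := h
  have hnone : (Mathieu.ptEnc (none : GolayPt)).val = 23 := by decide +kernel
  have hsurj : ∀ n < 24, ∃ p, (Mathieu.ptEnc p).val = n :=
    fun n hn => ⟨Mathieu.ptEnc.symm ⟨n, hn⟩, by simp⟩
  have hsum : ∀ g : ℕ → ℤ, ((List.range 24).map g).sum = ∑ p : GolayPt, g (Mathieu.ptEnc p).val := by
    intro g
    rw [Equiv.sum_comp Mathieu.ptEnc (fun i : Fin 24 => g i.val), Fin.sum_univ_eq_sum_range]
    rfl
  simp only [lattB, Bool.and_eq_true, List.all_eq_true, List.mem_range, beq_iff_eq]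
  refine ⟨⟨fun n hn => ?_, ?_⟩, fun m hm => ?_⟩
  · obtain ⟨p, rfl⟩ := hsurj n hn
    have := h1 p
    simpa [dec8, hnone] using this
  · rw [hsum]
    simpa [dec8, hnone] using h3
  · have hin : Mathieu.inCode m = true := by revert m; decide +kernel
    have hdot := code_dot h2 (Mathieu.wordOf_mem_of_inCode hin)
    rw [← List.toFinset_card_of_nodup ((List.nodup_range).filter _)]
    have hcard : ((List.range 24).filter fun n => m.testBit n && dig8 V n / 2 % 2 == 1).toFinset.card =
        (support₂ (hb (dec8 V)) ∩ support₂ (Mathieu.wordOf m)).card := by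
      symm
      refine Finset.card_bij (fun p _ => (Mathieu.ptEnc p).val) (fun p hp => ?_)
        (fun p _ q _ e => Mathieu.ptEnc.injective (Fin.ext e)) (fun n hn => ?_)
      · rw [Finset.mem_inter, mem_supp, mem_supp, hb_eq_one_iff] at hp
        obtain ⟨ha, hb'⟩ := hp
        simp only [Mathieu.wordOf, Mathieu.hasPt] at hb'
        simp only [List.mem_toFinset, List.mem_filter, List.mem_range, Bool.and_eq_true, beq_iff_eq]
        refine ⟨(Mathieu.ptEnc p).isLt, ?_, ha⟩
        by_contra hne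
        simp [hne] at hb'
      · simp only [List.mem_toFinset, List.mem_filter, List.mem_range, Bool.and_eq_true,
          beq_iff_eq] at hn
        obtain ⟨p, rfl⟩ := hsurj n hn.1
        refine ⟨p, ?_, rfl⟩
        rw [Finset.mem_inter, mem_supp, mem_supp, hb_eq_one_iff]
        exact ⟨hn.2.2, by simp [Mathieu.wordOf, Mathieu.hasPt, hn.2.1]⟩
    rw [hcard]
    rw [dot_eq_inter_card, ZMod.natCast_eq_zero_iff] at hdot
    omega

theorem fixed_list : ∀ a ∈ List.range 17, ∀ b ∈ List.range 17, ∀ c ∈ List.range 5, ∀ d ∈ List.range 5,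
    ((a : ℤ) - 8) ^ 2 + ((b : ℤ) - 8) ^ 2 + 11 * ((c : ℤ) - 2) ^ 2 + 11 * ((d : ℤ) - 2) ^ 2 ≠ 64 ∨
      lattB (pack8 (orbitVal ((a : ℤ) - 8) ((b : ℤ) - 8) ((c : ℤ) - 2) ((d : ℤ) - 2))) = false ∨
      ∃ L ∈ cosetWords, ∃ i ∈ [23, 22], ∃ s ∈ [(8 : ℤ), -8],
        sendsB L (unitV s i)
          (pack8 (orbitVal ((a : ℤ) - 8) ((b : ℤ) - 8) ((c : ℤ) - 2) ((d : ℤ) - 2))) = true := by
  decide +kernel

theorem pack8_orbitVal : ∀ a ∈ List.range 17, ∀ b ∈ List.range 17, ∀ c ∈ List.range 5,
    ∀ d ∈ List.range 5, ∀ p ∈ List.range 24,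
      ((a : ℤ) - 8) ^ 2 + ((b : ℤ) - 8) ^ 2 + 11 * ((c : ℤ) - 2) ^ 2 + 11 * ((d : ℤ) - 2) ^ 2 = 64 →
      dig8 (pack8 (orbitVal ((a : ℤ) - 8) ((b : ℤ) - 8) ((c : ℤ) - 2) ((d : ℤ) - 2))) p =
        orbitVal ((a : ℤ) - 8) ((b : ℤ) - 8) ((c : ℤ) - 2) ((d : ℤ) - 2) p := by
  decide +kernel

theorem unitV_cross : ∀ i ∈ [23, 22], ∀ s ∈ [(8 : ℤ), -8], ∀ p : GolayPt,
    dec8 (unitV s i) p = if p = Mathieu.idx Mathieu.ptEnc i then s else 0 := by
  decide +kernel

theorem exists_coset {z : leechLattice} (hn : sqNorm (z : GolayPt → ℤ) = 64)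
    (hz : perm0 Y • z = z) :
    ∃ L ∈ cosetWords, (((wordEl L)⁻¹ • z : leechLattice) : GolayPt → ℤ) ∈ stdCross := by
  set f : GolayPt → ℤ := (z : GolayPt → ℤ) with hf
  have hfix : ∀ q, f ((Y : Equiv.Perm GolayPt) q) = f q := by
    intro q
    have := congrArg (fun w : leechLattice => (w : GolayPt → ℤ) ((Y : Equiv.Perm GolayPt) q)) hz
    rw [perm0_smul, Equiv.symm_apply_apply] at this
    exact this.symm
  have hconst := const_on_orbits f hfix
  set A := f (Mathieu.idx Mathieu.ptEnc 23) with hA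
  set B := f (Mathieu.idx Mathieu.ptEnc 22) with hB
  set C := f (Mathieu.idx Mathieu.ptEnc 0) with hC
  set D := f (Mathieu.idx Mathieu.ptEnc 4) with hD
  have hsq : A ^ 2 + B ^ 2 + 11 * C ^ 2 + 11 * D ^ 2 = 64 := by
    rw [← sum_orbitVal, ← hn, sqNorm]
    exact Finset.sum_congr rfl fun p _ => by rw [← hconst p]
  obtain ⟨a, ha, rfla⟩ : ∃ a : ℕ, a < 17 ∧ A = (a : ℤ) - 8 :=
    ⟨(A + 8).toNat, by have : -8 ≤ A := by nlinarith
                       have : A ≤ 8 := by nlinarith
                       omega⟩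
  obtain ⟨b, hb, rflb⟩ : ∃ b : ℕ, b < 17 ∧ B = (b : ℤ) - 8 :=
    ⟨(B + 8).toNat, by have : -8 ≤ B := by nlinarith
                       have : B ≤ 8 := by nlinarith
                       omega⟩
  obtain ⟨c, hc, rflc⟩ : ∃ c : ℕ, c < 5 ∧ C = (c : ℤ) - 2 :=
    ⟨(C + 2).toNat, by have : -2 ≤ C := by nlinarith
                       have : C ≤ 2 := by nlinarith
                       omega⟩
  obtain ⟨d, hd, rfld⟩ : ∃ d : ℕ, d < 5 ∧ D = (d : ℤ) - 2 :=
    ⟨(D + 2).toNat, by have : -2 ≤ D := by nlinarith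
                       have : D ≤ 2 := by nlinarith
                       omega⟩
  rw [rfla, rflb, rflc, rfld] at hconst hsq
  set W := pack8 (orbitVal ((a : ℤ) - 8) ((b : ℤ) - 8) ((c : ℤ) - 2) ((d : ℤ) - 2)) with hW
  have hdec : f = dec8 W := by
    funext p
    rw [hconst p, dec8, hW, pack8_orbitVal a (List.mem_range.2 ha) b (List.mem_range.2 hb)
      c (List.mem_range.2 hc) d (List.mem_range.2 hd) _ (List.mem_range.2 (Mathieu.ptEnc p).isLt) hsq]
  rcases fixed_list a (List.mem_range.2 ha) b (List.mem_range.2 hb)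
      c (List.mem_range.2 hc) d (List.mem_range.2 hd) with h | h | h
  · exact absurd hsq h
  · rw [← hW, lattB_of_inL (by rw [← hdec]; exact mem_leechLattice.1 z.2)] at h
    exact absurd h (by simp)
  · obtain ⟨L, hL, i, hi, s, hs, hsend⟩ := h
    refine ⟨L, hL, ?_⟩
    set q := Mathieu.idx Mathieu.ptEnc i
    have hw : ∃ w : leechLattice, (w : GolayPt → ℤ) = dec8 (unitV s i) ∧
        (w : GolayPt → ℤ) ∈ stdCross := by
      have hu : dec8 (unitV s i) = Pi.single q s := by
        funext p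
        rw [unitV_cross i hi s hs p, Pi.single_apply]
      have hs' : s = 8 ∨ s = -8 := by simpa using hs
      rcases hs' with rfl | rfl
      · refine ⟨eight q, by rw [hu]; rfl, eight_mem_stdCross q⟩
      · refine ⟨-eight q, by rw [hu, NegMemClass.coe_neg, eight_val, ← Pi.single_neg], ?_⟩
        exact ⟨q, -8, Or.inr rfl, by rw [NegMemClass.coe_neg, eight_val, ← Pi.single_neg]⟩
    obtain ⟨w, hw1, hw2⟩ := hw
    have e : wordEl L • w = z :=
      Subtype.ext ((sendsB_spec (words_ok.1 L hL) hsend hw1).trans (hdec ▸ rfl))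
    rw [← e, inv_smul_smul]
    exact hw2

/-- The monomial elements commuting with `Y`. -/
theorem cent_Y_mono {g : Co0} (hg : g ∈ monGrp) (h : g * perm0 Y = perm0 Y * g) :
    ∃ k < 11, ∃ S ∈ signWords, g = wordEl S * perm0 Y ^ k := by
  obtain ⟨σ, c, hc, rfl⟩ := mono_decomp hg
  set ρ : M24 := Subgroup.inclusion Mathieu.M23_le_M24 Y with hρ
  have key := mono_intertwine (σ := σ) (ρ := ρ) (ρ' := ρ) hc h
  have hYσ : (σ : Equiv.Perm GolayPt) * (Y : Equiv.Perm GolayPt) =
      (Y : Equiv.Perm GolayPt) * (σ : Equiv.Perm GolayPt) := by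
    have h1 : (σ : Equiv.Perm GolayPt)⁻¹ * (Y : Equiv.Perm GolayPt)⁻¹ =
        (Y : Equiv.Perm GolayPt)⁻¹ * (σ : Equiv.Perm GolayPt)⁻¹ := Equiv.ext fun p => (key p).1
    simpa using (congrArg (·⁻¹) h1).symm
  obtain ⟨l, hl, hlr⟩ := Mathieu.stab24.exists_solution rep_Y rep_Y σ.2 hYσ
  have hsol : ∀ l ∈ Mathieu.solutions 24 Mathieu.rigid23.y Mathieu.rigid23.y Mathieu.levels24,
      ∃ k < 11, Mathieu.samePack 24 l (Mathieu.packPowS 24 Mathieu.rigid23.y k) = true := by
    decide +kernel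
  obtain ⟨k, hk, hsame⟩ := hsol l hl
  rw [Mathieu.packPowS_eq] at hsame
  have hσ : σ = ρ ^ k := Subtype.ext ((hlr.of_same hsame).unique (rep_pow rep_Y k))
  refine ⟨k, hk, ?_⟩
  have hcY : ∀ q, c ((Y : Equiv.Perm GolayPt) q) = c q := fun q => by
    have := (key ((Y : Equiv.Perm GolayPt) q)).2
    rwa [show (ρ : Equiv.Perm GolayPt) = (Y : Equiv.Perm GolayPt) from rfl,
      Equiv.symm_apply_apply, eq_comm] at this
  have hconst := const_on_orbits c hcY
  have hfin : ∀ a b u d : ZMod 2,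
      (∃ m ∈ Mathieu.codeBasis,
          ∑ p : GolayPt, orbitVal a b u d (Mathieu.ptEnc p).val * Mathieu.wordOf m p ≠ 0) ∨
        ∃ m ∈ [0, maskD, 0xffffff, 0xffffff ^^^ maskD],
          ∀ p : GolayPt, orbitVal a b u d (Mathieu.ptEnc p).val = Mathieu.wordOf m p := by
    decide +kernel
  rcases hfin (c (Mathieu.idx Mathieu.ptEnc 23)) (c (Mathieu.idx Mathieu.ptEnc 22))
      (c (Mathieu.idx Mathieu.ptEnc 0)) (c (Mathieu.idx Mathieu.ptEnc 4)) with
    ⟨m, hm, hne⟩ | ⟨m, hm, heq⟩
  · refine absurd ?_ hne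
    simp only [← hconst]
    have hall : ∀ m ∈ Mathieu.codeBasis, Mathieu.inCode m = true := by decide +kernel
    exact code_dot hc (Mathieu.wordOf_mem_of_inCode (hall m hm))
  · have hcm : c = Mathieu.wordOf m := funext fun p => (hconst p).trans (heq p)
    have hS : ∀ m ∈ [0, maskD, 0xffffff, 0xffffff ^^^ maskD], ∃ S ∈ signWords,
        monoOK (idPack, m) = true ∧ ([[(idPack, m)]] : List Gen).all Gen.ok = true ∧
          eqB [[(idPack, m)]] S = true := by decide +kernel
    obtain ⟨S, hS, hok, hok', he⟩ := hS m hm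
    refine ⟨S, hS, ?_⟩
    rw [← eqB_spec hok' (words_ok.2 S hS) he, wordEl_singleton]
    have hid : Mathieu.Rep Mathieu.ptEnc (1 : Equiv.Perm GolayPt) idPack :=
      (Mathieu.rep_packId (by norm_num)).of_same (by decide +kernel)
    rw [← signElt_eq_el hid hok (hcm ▸ hc), signElt_congr hc (hcm ▸ hc) hcm, hσ, map_pow]
    rfl

/-- The centraliser of `Y`. -/
theorem cent_Y {g : Co0} (h : g * perm0 Y = perm0 Y * g) :
    ∃ k < 11, ∃ L ∈ centWords, g = perm0 Y ^ k * wordEl L := by
  have hY8 : perm0 Y • eight none = eight none := by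
    refine Subtype.ext (funext fun p => ?_)
    rw [perm0_smul, eight_val]
    have hn : (Y : Equiv.Perm GolayPt) none = none := (Mathieu.mem_M23_iff.1 Y.2).2
    cases p with
    | none => rw [show (Y : Equiv.Perm GolayPt).symm none = none from
        (Equiv.symm_apply_eq _).2 hn.symm]
    | some i =>
      rw [Pi.single_eq_of_ne (show (some i : GolayPt) ≠ none by simp), Pi.single_eq_of_ne]
      intro e
      rw [Equiv.symm_apply_eq, hn] at e
      simp at e
  obtain ⟨L, hL, hcr⟩ := exists_coset (z := g • eight none)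
    ((co0_norm g _).trans (sqNorm_eight none)) (by rw [← mul_smul, ← h, mul_smul, hY8])
  have hLc : Commute (wordEl L) (perm0 Y) := by
    have hmem : ∀ L ∈ cosetWords, L ∈ centWords := by decide +kernel
    exact (centWords_comm L (hmem L hL)).1
  have hg' : (wordEl L)⁻¹ * g * perm0 Y = perm0 Y * ((wordEl L)⁻¹ * g) := by
    rw [mul_assoc, h, ← mul_assoc, ← mul_assoc, hLc.inv_left.eq]
  obtain ⟨k, hk, S, hS, e⟩ := cent_Y_mono
    (mem_monGrp_of_cross (by rw [mul_smul]; exact hcr)) hg'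
  have hmem : L ++ S ∈ centWords :=
    List.mem_flatMap.2 ⟨L, hL, List.mem_map.2 ⟨S, hS, rfl⟩⟩
  refine ⟨k, hk, L ++ S, hmem, ?_⟩
  rw [((centWords_comm _ hmem).1.symm.pow_left k).eq, wordEl_append, mul_assoc, ← e,
    mul_inv_cancel_left]

end Cfsg.Agent.ConwayOut
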