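import Cfsg.Agent.Lib.ConwayOut.Fixed

/-!
# Automorphisms of `Co0` modulo its centre

`psi_fixes`: an automorphism fixing `M23` fixes three further elements.
-/

set_option autoImplicit false
set_option maxRecDepth 20000

namespace Cfsg.Agent.ConwayOut

open Cfsg Cfsg.Agent.Leech MulAction

/-- The quotient map. -/
noncomputable def qOne : Co0 →* Spor.Co1 := QuotientGroup.mk' (Subgroup.center Co0)

theorem qOne_surjective : Function.Surjective qOne := QuotientGroup.mk'_surjective _

theorem qOne_eq_one {a : Co0} : qOne a = 1 ↔ a = 1 ∨ a = negElt := by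
  rw [qOne, QuotientGroup.mk'_apply, QuotientGroup.eq_one_iff]
  constructor
  · exact center_eq
  · rintro (rfl | rfl)
    · exact one_mem _
    · exact negElt_mem_center

/-- The word does not negate `8 eᵢ`. -/
def notFlipB (L : List Gen) (i : ℕ) : Bool :=
  match evalW L (unitV 8 i) with
  | none => false
  | some U => (List.range 24).any fun n => dig8 U n != dig8 (unitV (-8) i) n

theorem notFlipB_spec {L : List Gen} (hok : L.all Gen.ok = true) {i : ℕ} (hi : i < 24)
    (h : notFlipB L i = true) : wordEl L ≠ negElt := by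
  simp only [notFlipB] at h
  split at h
  · simp at h
  · rename_i U hU
    simp only [List.any_eq_true, List.mem_range, bne_iff_ne] at h
    obtain ⟨n, hn, h1⟩ := h
    obtain ⟨p, rfl⟩ : ∃ p, (Mathieu.ptEnc p).val = i := ⟨Mathieu.ptEnc.symm ⟨i, hi⟩, by simp⟩
    obtain ⟨q, rfl⟩ : ∃ p, (Mathieu.ptEnc p).val = n := ⟨Mathieu.ptEnc.symm ⟨n, hn⟩, by simp⟩
    intro he
    have e := evalW_spec L hok _ U _ (dec8_unitV p).symm hU
    rw [he, negElt_smul, ← dec8_unitV_neg] at e
    exact h1 (congrFun e q).symm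

/-- Some `8 eᵢ` is moved and some is not negated. -/
def offScalarB (L : List Gen) : Bool :=
  L.all Gen.ok && ((List.range 24).any fun i => movesB L (unitV 8 i)) &&
    (List.range 24).any fun i => notFlipB L i

theorem offScalarB_spec {L : List Gen} (h : offScalarB L = true) : qOne (wordEl L) ≠ 1 := by
  simp only [offScalarB, Bool.and_eq_true, List.any_eq_true, List.mem_range] at h
  obtain ⟨⟨hok, i, hi, hm⟩, j, hj, hf⟩ := h
  rw [Ne, qOne_eq_one, not_or]
  refine ⟨fun he => ?_, notFlipB_spec hok hj hf⟩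
  obtain ⟨p, rfl⟩ : ∃ p, (Mathieu.ptEnc p).val = i := ⟨Mathieu.ptEnc.symm ⟨i, hi⟩, by simp⟩
  exact movesB_spec hok hm (dec8_unitV p).symm (by rw [he, one_smul])

/-- The word is a scalar. -/
def scalarB (L : List Gen) : Bool := L.all Gen.ok && (isOneB L || isNegB L)

theorem scalarB_spec {L : List Gen} (h : scalarB L = true) : qOne (wordEl L) = 1 := by
  simp only [scalarB, Bool.and_eq_true, Bool.or_eq_true] at h
  rw [qOne_eq_one]
  rcases h.2 with h' | h'
  · exact Or.inl (isOneB_spec h.1 h')
  · exact Or.inr (isNegB_spec h.1 h')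

theorem wordEl_genN : wordEl [genN] = negElt :=
  isNegB_spec (by decide +kernel) (by decide +kernel)

/-- The copy of `M23`. -/
noncomputable def oneHom : Spor.M23 →* Spor.Co1 := qOne.comp perm0

theorem perm0_eight (m : Spor.M23) : perm0 m • eight none = eight none :=
  perm0_fix_const (c := 0) (fun p hp => by rw [eight_val, Pi.single_eq_of_ne hp]) m

theorem oneHom_injective : Function.Injective oneHom := by
  refine (injective_iff_map_eq_one _).2 fun m hm => ?_
  rcases qOne_eq_one.1 hm with h | h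
  · exact perm0_injective (h.trans (map_one perm0).symm)
  · exfalso
    have h1 := perm0_eight m
    rw [h, negElt_smul] at h1
    exact neg_ne_self (by norm_num) (sqNorm_eight none) h1

theorem commute_of_mod_center {a b : Co0} {p : ℕ} (hp : Odd p) (hb : b ^ p = 1)
    (h : qOne a * qOne b = qOne b * qOne a) : a * b = b * a := by
  have h1 : qOne (a * b * a⁻¹ * b⁻¹) = 1 := by
    rw [map_mul, map_mul, map_mul, map_inv, map_inv, h, mul_inv_cancel_right, mul_inv_cancel]
  rcases qOne_eq_one.1 h1 with h2 | h2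
  · rwa [mul_inv_eq_one, mul_inv_eq_iff_eq_mul] at h2
  · exfalso
    rw [mul_inv_eq_iff_eq_mul] at h2
    have h3 := congrArg (· ^ p) h2
    simp only [conj_pow] at h3
    have hc : Commute negElt b := (Subgroup.mem_center_iff.1 negElt_mem_center b).symm
    rw [hb, hc.mul_pow, hb, mul_one, mul_one, mul_inv_cancel] at h3
    have hsq : negElt * negElt = 1 := by
      refine eq_of_smul_eq_smul (α := leechLattice) fun v => ?_
      rw [mul_smul, negElt_smul, negElt_smul, neg_neg, one_smul]
    obtain ⟨j, rfl⟩ := hp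
    rw [pow_succ, pow_mul, pow_two, hsq, one_pow, one_mul] at h3
    exact negElt_ne_one h3.symm

theorem cent_X_one (g : Spor.Co1) (hg : g * oneHom X = oneHom X * g) :
    ∃ k, k < 23 ∧ g = oneHom X ^ k := by
  obtain ⟨a, rfl⟩ := qOne_surjective g
  have hx : (x23 : Co0) ^ 23 = 1 := orderOf_x23 ▸ pow_orderOf_eq_one x23
  have ha : a * x23 = x23 * a :=
    commute_of_mod_center (p := 23) ⟨11, rfl⟩ hx (by
      simpa [oneHom, perm0_X_eq] using hg)
  obtain ⟨j, hj⟩ := cent_x23 ha
  refine ⟨j % 23, Nat.mod_lt _ (by norm_num), ?_⟩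
  have hneg : qOne negElt = 1 := qOne_eq_one.2 (Or.inr rfl)
  have hm : x23 ^ (j % 23) = x23 ^ j := orderOf_x23 ▸ pow_mod_orderOf x23 j
  rw [oneHom, MonoidHom.comp_apply, perm0_X_eq, ← map_pow, hm]
  rcases hj with rfl | rfl
  · rfl
  · rw [map_mul, hneg, one_mul]

/-- Representatives of the twelve words modulo the centre. -/
def sixWords : List (List Gen) :=
  [[], [genD], [genG], [genG, genD], [genD, genG], [genD, genG, genD]]

theorem six_checks : (∀ L ∈ sixWords, L ∈ centWords) ∧
    (∀ L ∈ centWords, ∃ S ∈ sixWords, eqB L S = true ∨ eqB L (genN :: S) = true) ∧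
    (∀ L ∈ sixWords, (genN :: L).all Gen.ok = true) ∧
    ∀ L ∈ sixWords, L = [] ∨ offScalarB (List.replicate 5 L).flatten = true := by
  decide +kernel

/-- The six classes. -/
def sixSet : Set Spor.Co1 := {e | ∃ L ∈ sixWords, e = qOne (wordEl L)}

theorem cent_Y_one (c : Spor.Co1) (hc : c * oneHom Y = oneHom Y * c) :
    ∃ i < 11, ∃ e ∈ sixSet, c = oneHom Y ^ i * e := by
  obtain ⟨a, rfl⟩ := qOne_surjective c
  have hy : perm0 Y ^ 11 = 1 := by rw [← map_pow, Y_pow, map_one]
  obtain ⟨i, hi, L, hL, e⟩ := cent_Y (commute_of_mod_center (p := 11) ⟨5, rfl⟩ hy hc)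
  obtain ⟨h1, h2, h3, -⟩ := six_checks
  obtain ⟨S, hS, hS'⟩ := h2 L hL
  refine ⟨i, hi, qOne (wordEl S), ⟨S, hS, rfl⟩, ?_⟩
  rw [e, map_mul, map_pow]
  congr 1
  rcases hS' with h | h
  · rw [eqB_spec (centWords_ok L hL) (centWords_ok S (h1 S hS)) h]
  · rw [eqB_spec (centWords_ok L hL) (h3 S hS) h, wordEl_cons, map_mul, ← wordEl_singleton genN,
      wordEl_genN, qOne_eq_one.2 (Or.inr rfl), one_mul]

theorem sixSet_comm (e : Spor.Co1) (he : e ∈ sixSet) :
    Commute e (oneHom Y) ∧ Commute e (oneHom T) := by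
  obtain ⟨L, hL, rfl⟩ := he
  have := centWords_comm L (six_checks.1 L hL)
  exact ⟨this.1.map qOne, this.2.map qOne⟩

theorem sixSet_five (e : Spor.Co1) (he : e ∈ sixSet) (h5 : e ^ 5 = 1) : e = 1 := by
  obtain ⟨L, hL, rfl⟩ := he
  rcases six_checks.2.2.2 L hL with rfl | h
  · rw [wordEl_nil, map_one]
  · refine absurd ?_ (offScalarB_spec h)
    rw [← map_pow] at h5
    rw [← h5]
    congr 1
    rw [wordEl, List.map_flatten, List.prod_flatten, List.map_replicate, List.map_replicate,
      List.prod_replicate]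
    rfl

/-! ### Three elements are fixed -/

/-- An element of `M23` fixing the squares, inverse to itself, as a word. -/
def relD : List Gen := [[(0x170f1510130e08141612090305040d1107060b0a0c020100, 0)]]

/-- An element of `M23`, as a word. -/
def relA : List Gen := [[(0x171613150d040c110f030a020914120e100806000507010b, 0)]]

/-- The inverse of the conjugate of `relA` by the swap, as a word. -/
def relB : List Gen := [[(0x171602030612080a0b100d010915040c14071100130e050f, 0)]]

theorem exists_perm0 (l m : ℕ)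
    (hl : ((Mathieu.permOK 24 l && Mathieu.presCode l) = true) ∧ Mathieu.app l 23 = 23)
    (hm : (Mathieu.permOK 24 m && Mathieu.isId 24 (Mathieu.packMul 24 l m)) = true)
    (hok : monoOK (m, 0) = true) : ∃ σ : Spor.M23, perm0 σ = wordEl [[(m, 0)]] := by
  obtain ⟨σ, hσ, hr⟩ := Mathieu.exists_rep_M24 hl.1
  have hn : σ none = none := by
    have h := hr.apply_idx (show 23 < 24 by norm_num)
    rwa [hl.2, Mathieu.idx_none] at h
  exact ⟨⟨σ, Mathieu.mem_M23_iff.2 ⟨hσ, hn⟩⟩, (perm0_eq_el hr hm hok).trans (wordEl_singleton _).symm⟩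

theorem rel_mem : ∀ L ∈ [relD, relA, relB], ∃ σ : Spor.M23, perm0 σ = wordEl L := by
  intro L hL
  simp only [List.mem_cons, List.not_mem_nil, or_false] at hL
  rcases hL with rfl | rfl | rfl
  · exact exists_perm0 0x170f1510130e08141612090305040d1107060b0a0c020100 _ (by decide +kernel)
      (by decide +kernel) (by decide +kernel)
  · exact exists_perm0 0x1716140a150910070f081311000d0b06020503120e0c0104 _ (by decide +kernel)
      (by decide +kernel) (by decide +kernel)
  · exact exists_perm0 0x17160a070312050e00020d080f100b110613010914150c04 _ (by decide +kernel)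
      (by decide +kernel) (by decide +kernel)

/-- The relation of the sign change and `relD`. -/
def relWordD (z : List Gen) : List Gen := z ++ relD ++ z ++ relD

/-- The relation of the swap and `relA`. -/
def relWordP (z : List Gen) : List Gen := z ++ relA ++ z ++ relB

/-- The relation of the involution and `genX`. -/
def relWordG (z : List Gen) : List Gen := (List.replicate 12 ([genX] ++ z)).flatten

theorem rel_checks :
    scalarB (relWordD [genD]) = true ∧ scalarB ([genD] ++ [genD]) = true ∧
    offScalarB [genD] = true ∧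
    (∀ L ∈ sixWords, L = [] ∨ L = [genD] ∨ offScalarB (relWordD ([genD] ++ L)) = true) ∧
    scalarB (relWordP [genP]) = true ∧
    (∀ L ∈ sixWords, L = [] ∨ offScalarB (relWordP ([genP] ++ L)) = true) ∧
    scalarB (relWordG [genG]) = true ∧
    (∀ L ∈ sixWords, L = [] ∨ offScalarB (relWordG ([genG] ++ L)) = true) := by
  decide +kernel

theorem norm_checks : ∀ zb ∈ [(genD, 1), (genG, 1), (genP, 10)],
    ([zb.1] ++ [genT]).all Gen.ok = true ∧ ([genT] ++ [zb.1]).all Gen.ok = true ∧
      eqB ([zb.1] ++ [genT]) ([genT] ++ [zb.1]) = true ∧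
      ([zb.1] ++ [genY]).all Gen.ok = true ∧
      (List.replicate zb.2 genY ++ [zb.1]).all Gen.ok = true ∧
      eqB ([zb.1] ++ [genY]) (List.replicate zb.2 genY ++ [zb.1]) = true := by
  decide +kernel

theorem wordEl_replicate (a : ℕ) (g : Gen) : wordEl (List.replicate a g) = wordEl [g] ^ a := by
  rw [wordEl, List.map_replicate, List.prod_replicate, wordEl_singleton]

theorem psi_coset {ψ : MulAut Spor.Co1} (hψ : ∀ m, ψ (oneHom m) = oneHom m) {g : Gen} {b : ℕ}
    (hg : (g, b) ∈ [(genD, 1), (genG, 1), (genP, 10)]) :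
    ∃ L ∈ sixWords, ψ (qOne (wordEl [g])) = qOne (wordEl ([g] ++ L)) := by
  obtain ⟨a1, a2, a3, b1, b2, b3⟩ := norm_checks _ hg
  have hT : Commute (qOne (wordEl [g])) (oneHom T) := by
    refine Commute.map ?_ qOne
    show wordEl [g] * perm0 T = perm0 T * wordEl [g]
    rw [perm0_T, ← wordEl_append, ← wordEl_append]
    exact eqB_spec a1 a2 a3
  have hY : qOne (wordEl [g]) * oneHom Y = oneHom Y ^ b * qOne (wordEl [g]) := by
    rw [oneHom, MonoidHom.comp_apply, ← map_pow, ← map_mul, ← map_mul]
    congr 1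
    rw [perm0_Y, ← wordEl_replicate, ← wordEl_append, ← wordEl_append]
    exact eqB_spec b1 b2 b3
  obtain ⟨e, ⟨L, hL, rfl⟩, he⟩ := conj_fix oneHom oneHom_injective sixSet cent_Y_one
    (fun e he => (sixSet_comm e he).2) hψ hT hY
  exact ⟨L, hL, by rw [he, ← map_mul, ← wordEl_append]⟩

theorem psi_rel {ψ : MulAut Spor.Co1} (hψ : ∀ m, ψ (oneHom m) = oneHom m) {z z' A B : List Gen}
    (hA : ∃ σ : Spor.M23, perm0 σ = wordEl A) (hB : ∃ σ : Spor.M23, perm0 σ = wordEl B)
    (hz : ψ (qOne (wordEl z)) = qOne (wordEl z'))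
    (h : scalarB (z ++ A ++ z ++ B) = true) : qOne (wordEl (z' ++ A ++ z' ++ B)) = 1 := by
  obtain ⟨a, ha⟩ := hA
  obtain ⟨b, hb⟩ := hB
  have h1 := scalarB_spec h
  simp only [wordEl_append, map_mul, ← ha, ← hb] at h1 ⊢
  have h2 := congrArg ψ h1
  simp only [map_mul, map_one, hz] at h2
  rwa [show ψ (qOne (perm0 a)) = qOne (perm0 a) from hψ a,
    show ψ (qOne (perm0 b)) = qOne (perm0 b) from hψ b] at h2

theorem wordEl_relWordG (z : List Gen) : wordEl (relWordG z) = (perm0 X * wordEl z) ^ 12 := by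
  rw [relWordG, wordEl, List.map_flatten, List.prod_flatten, List.map_replicate,
    List.map_replicate, List.prod_replicate, perm0_X, ← wordEl_append]
  rfl

theorem psi_fixes {ψ : MulAut Spor.Co1} (hψ : ∀ m, ψ (oneHom m) = oneHom m) :
    ∀ g ∈ [genD, genG, genP], ψ (qOne (wordEl [g])) = qOne (wordEl [g]) := by
  obtain ⟨d1, d2, d3, d4, p1, p2, g1, g2⟩ := rel_checks
  have hD := rel_mem relD (by simp)
  have hA := rel_mem relA (by simp)
  have hB := rel_mem relB (by simp)
  intro g hg
  simp only [List.mem_cons, List.not_mem_nil, or_false] at hg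
  rcases hg with rfl | rfl | rfl
  · obtain ⟨L, hL, h⟩ := psi_coset hψ (g := genD) (b := 1) (by simp)
    rcases d4 L hL with rfl | rfl | hbad
    · simpa using h
    · exfalso
      rw [scalarB_spec d2, ← map_one ψ] at h
      exact offScalarB_spec d3 (ψ.injective h)
    · exact absurd (psi_rel hψ hD hD h d1) (offScalarB_spec hbad)
  · obtain ⟨L, hL, h⟩ := psi_coset hψ (g := genG) (b := 1) (by simp)
    rcases g2 L hL with rfl | hbad
    · simpa using h
    · refine absurd ?_ (offScalarB_spec hbad)
      have h1 := congrArg ψ (scalarB_spec g1)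
      rw [wordEl_relWordG, map_pow, map_mul, map_pow, map_mul, map_one, h,
        show ψ (qOne (perm0 X)) = qOne (perm0 X) from hψ X] at h1
      rw [wordEl_relWordG, map_pow, map_mul]
      exact h1
  · obtain ⟨L, hL, h⟩ := psi_coset hψ (g := genP) (b := 10) (by simp)
    rcases p2 L hL with rfl | hbad
    · simpa using h
    · exact absurd (psi_rel hψ hA hB h p1) (offScalarB_spec hbad)

end Cfsg.Agent.ConwayOut
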