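import Cfsg.Agent.Lib.ConwayOut.CoOne

/-!
# Automorphisms of `Co0` modulo its centre

`co1_inner`: they are inner.
-/

set_option autoImplicit false
set_option maxRecDepth 20000

namespace Cfsg.Agent.ConwayOut

open Cfsg Cfsg.Agent.Leech MulAction

/-! ### Everything is fixed -/

theorem qrWord_shift : ∀ (t : ZMod 23) (p : GolayPt),
    qrWord t ((trElt : Equiv.Perm GolayPt).symm p) = qrWord (t + 1) p := by
  decide +kernel

theorem qrWord_mask : ∀ p : GolayPt, Mathieu.wordOf maskD p = qrWord (-1) p := by decide +kernel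

theorem signs_mem (K : Subgroup Co0) (hneg : negElt ∈ K) (hx : x23 ∈ K)
    (hD : wordEl [genD] ∈ K) {c : GolayPt → ZMod 2} (hc : c ∈ golayCode) : signElt c hc ∈ K := by
  have h0 : qrWord (-1) ∈ golayCode := Submodule.subset_span (Or.inl ⟨_, rfl⟩)
  have hmask : Mathieu.wordOf maskD = qrWord (-1) := funext qrWord_mask
  have hstart : signElt (qrWord (-1)) h0 ∈ K := by
    have hc' : Mathieu.wordOf maskD ∈ golayCode := hmask ▸ h0
    rw [← signElt_congr hc' h0 hmask, signElt_eq_el
      (m := idPack) ((Mathieu.rep_packId (by norm_num)).of_same (by decide +kernel)) (by decide +kernel) hc',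
      ← wordEl_singleton]
    exact hD
  have hall : ∀ k : ℕ, ∀ h : qrWord (-1 + k) ∈ golayCode, signElt (qrWord (-1 + k)) h ∈ K := by
    intro k
    induction k with
    | zero =>
      intro h
      rw [signElt_congr h h0 (by rw [Nat.cast_zero, add_zero])]
      exact hstart
    | succ k ih =>
      intro h
      have hk : qrWord (-1 + (k : ZMod 23)) ∈ golayCode := Submodule.subset_span (Or.inl ⟨_, rfl⟩)
      have hconj := perm_conj_sign trElt hk
      have he : qrWord (-1 + (k : ZMod 23)) ∘ (trElt : Equiv.Perm GolayPt).symm =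
          qrWord (-1 + ((k + 1 : ℕ) : ZMod 23)) := funext fun p => by
        rw [Function.comp_apply, qrWord_shift, Nat.cast_succ, add_assoc]
      rw [← signElt_congr (comp_mem_code (inv_mem trElt.2) hk) h he]
      exact hconj ▸ K.mul_mem (K.mul_mem hx (ih hk)) (K.inv_mem hx)
  suffices h : ∀ hc : c ∈ golayCode, signElt c hc ∈ K from h hc
  refine Submodule.span_induction (p := fun c _ => ∀ hc : c ∈ golayCode, signElt c hc ∈ K)
    ?_ ?_ ?_ ?_ hc
  · rintro x (⟨t, rfl⟩ | hx1) hc
    · obtain ⟨k, hk⟩ : ∃ k : ℕ, -1 + (k : ZMod 23) = t := ⟨(t + 1).val, by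
        rw [ZMod.natCast_zmod_val]; ring⟩
      subst hk
      exact hall k hc
    · rw [Set.mem_singleton_iff] at hx1
      subst hx1
      exact hneg
  · intro hc
    rw [show signElt 0 hc = 1 from eq_of_smul_eq_smul (α := leechLattice) fun v => Subtype.ext (by
      rw [signElt_smul, one_smul]; funext i; simp [signFun, mem_supp])]
    exact one_mem _
  · intro x y hx' hy' ihx ihy hc
    rw [signElt_congr hc (add_mem hx' hy') rfl, signElt_add hx' hy']
    exact K.mul_mem (ihx hx') (ihy hy')
  · intro a x hx' ihx hc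
    rcases zmod2_cases a with rfl | rfl
    · rw [signElt_congr hc (zero_mem _) (zero_smul _ x),
        show signElt 0 (zero_mem _) = 1 from eq_of_smul_eq_smul (α := leechLattice) fun v =>
          Subtype.ext (by rw [signElt_smul, one_smul]; funext i; simp [signFun, mem_supp])]
      exact one_mem _
    · rw [signElt_congr hc hx' (one_smul _ x)]
      exact ihx hx'

theorem swap_exists : ∃ σ : M24, permHom σ = wordEl [genP] ∧
    (σ : Equiv.Perm GolayPt) none = some 22 := by
  obtain ⟨σ, hσ, hr⟩ := Mathieu.exists_rep_M24 (l := swapPack) (by decide +kernel)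
  have hinv : σ⁻¹ = σ := inv_eq_of_mul_eq_one_right ((Mathieu.rep_packMul hr hr).eq_one
    (by decide +kernel))
  refine ⟨⟨σ, hσ⟩, ?_, ?_⟩
  · rw [wordEl_singleton]
    exact permHom_eq_el (σ := ⟨σ, hσ⟩) (hinv.symm ▸ hr) (by decide +kernel)
  · have h := hr.apply_idx (show 23 < 24 by norm_num)
    rw [Mathieu.idx_none] at h
    show σ none = some 22
    rw [h]
    decide +kernel

theorem perms_mem (K : Subgroup Co0) (hM : ∀ m, perm0 m ∈ K) (hP : wordEl [genP] ∈ K) (σ : M24) :
    permHom σ ∈ K := by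
  obtain ⟨π, hπ, hπn⟩ := swap_exists
  cases hσn : (σ : Equiv.Perm GolayPt) none with
  | none => exact hM ⟨σ, Mathieu.mem_M23_iff.2 ⟨σ.2, hσn⟩⟩
  | some i =>
    set k := (i - 22).val with hk
    have hτn : ((trElt ^ k * π : M24) : Equiv.Perm GolayPt) none = some i := by
      rw [Subgroup.coe_mul, Equiv.Perm.mul_apply, hπn, (trElt_pow_apply k).2, hk,
        ZMod.natCast_zmod_val, add_sub_cancel]
    have hmem : ((((trElt ^ k * π)⁻¹ * σ : M24)) : Equiv.Perm GolayPt) none = none := by
      rw [Subgroup.coe_mul, Equiv.Perm.mul_apply, hσn, Subgroup.coe_inv,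
        Equiv.Perm.inv_eq_iff_eq, hτn]
    have h1 : permHom ((trElt ^ k * π)⁻¹ * σ) ∈ K :=
      hM ⟨_, Mathieu.mem_M23_iff.2 ⟨((trElt ^ k * π)⁻¹ * σ).2, hmem⟩⟩
    have hx : x23 ∈ K := perm0_X_eq ▸ hM X
    have h2 : permHom (trElt ^ k * π) ∈ K := by
      rw [map_mul, map_pow, hπ]
      exact K.mul_mem (K.pow_mem hx k) hP
    have := K.mul_mem h2 h1
    rwa [← map_mul, mul_inv_cancel_left] at this

theorem genG_not_mono : wordEl [genG] ∉ monGrp := by
  have hc : genG.ok = true ∧ (match evalW [genG] (unitV 8 23) with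
      | none => false
      | some U => (List.range 24).all fun j => (List.range 24).any fun n => n != j && dig8 U n != 0)
      = true := by decide +kernel
  intro h
  obtain ⟨hok, hc⟩ := hc
  split at hc
  · simp at hc
  · rename_i U hU
    have hn : (Mathieu.ptEnc (none : GolayPt)).val = 23 := by decide +kernel
    have h0 : ((eight none : leechLattice) : GolayPt → ℤ) = dec8 (unitV 8 23) := by
      have := dec8_unitV none
      rw [hn] at this
      exact this.symm
    have e := evalW_spec [genG] (by simpa using hok) _ U _ h0 hU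
    obtain ⟨i, s, -, hs⟩ := mem_monGrp.1 h _ (eight_mem_stdCross none)
    simp only [List.all_eq_true, List.any_eq_true, List.mem_range, Bool.and_eq_true,
      bne_iff_ne] at hc
    obtain ⟨n, hn24, hne, hdig⟩ := hc _ (Mathieu.ptEnc i).isLt
    obtain ⟨q, rfl⟩ : ∃ p, (Mathieu.ptEnc p).val = n := ⟨Mathieu.ptEnc.symm ⟨n, hn24⟩, by simp⟩
    refine hdig ?_
    show dec8 U q = 0
    rw [← e, hs, Pi.single_eq_of_ne]
    exact fun hq => hne (by rw [hq])

theorem co1_inner (φ : MulAut Spor.Co1) : φ ∈ Inn Spor.Co1 := by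
  obtain ⟨-, hcard⟩ := co1_isCo1
  obtain ⟨ψ, hψ, hfix⟩ := exists_fix oneHom oneHom_injective (by rw [hcard]; norm_num) cent_X_one
    sixSet cent_Y_one (fun e he => (sixSet_comm e he).1) (fun e he => (sixSet_comm e he).2)
    sixSet_five φ
  let K : Subgroup Co0 := (ψ.toMonoidHom.eqLocus (MonoidHom.id _)).comap qOne
  have hmem : ∀ a : Co0, a ∈ K ↔ ψ (qOne a) = qOne a := fun a => Iff.rfl
  have hfixes := psi_fixes hfix
  have hM : ∀ m, perm0 m ∈ K := fun m => (hmem _).2 (hfix m)
  have hneg : negElt ∈ K := (hmem _).2 (by rw [qOne_eq_one.2 (Or.inr rfl), map_one])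
  have hD : wordEl [genD] ∈ K := (hmem _).2 (hfixes genD (by simp))
  have hG : wordEl [genG] ∈ K := (hmem _).2 (hfixes genG (by simp))
  have hP : wordEl [genP] ∈ K := (hmem _).2 (hfixes genP (by simp))
  have hmono : monGrp ≤ K := by
    intro g hg
    obtain ⟨σ, c, hc, rfl⟩ := mono_decomp hg
    exact K.mul_mem (signs_mem K hneg (perm0_X_eq ▸ hM X) hD hc) (perms_mem K hM hP σ)
  have htop : K = ⊤ := monGrp_isCoatom.2 K
    (lt_of_le_of_ne hmono fun h => genG_not_mono (h ▸ hG))
  have h1 : ψ = 1 := MulEquiv.ext fun g => by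
    obtain ⟨a, rfl⟩ := qOne_surjective g
    exact (hmem a).1 (htop ▸ Subgroup.mem_top a)
  rw [h1, QuotientGroup.mk_one] at hψ
  exact (QuotientGroup.eq_one_iff φ).1 hψ.symm

end Cfsg.Agent.ConwayOut
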