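import Cfsg.Agent.Lib.ConwayOut.Fixed
import Cfsg.Agent.Lib.Leech.Co3Group

/-!
# Automorphisms of the stabiliser of a norm 48 vector

`co3_inner`: they are inner.
-/

set_option autoImplicit false
set_option maxRecDepth 20000

namespace Cfsg.Agent.ConwayOut

open Cfsg Cfsg.Agent.Leech MulAction

/-- The involution commuting with `Y` and `T`. -/
def zThree : List Gen := [genG]

/-- A word moving `8 e∞` into a long orbit. -/
def kThree : List Gen := [5, 2, 17].foldl (fun w a => zThree ++ (List.replicate a genX ++ w)) zThree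

/-- The image of `8 e∞`. -/
def wThree : ℕ := 0x85818181818181817f817f7f81818181817f7f8181837f83

theorem baseU_dec : ((baseU : leechLattice) : GolayPt → ℤ) = dec8 vecThree := by
  funext p; revert p; decide +kernel

theorem baseU_fix (m : Spor.M23) : perm0 m • baseU = baseU :=
  perm0_fix_const (c := -1) (fun p hp => by
    show (if p = none then (-5 : ℤ) else -1) = -1
    rw [if_neg hp]) m

theorem three_checks : (∀ L ∈ centWords, L ∈ [[], [genG]] ∨ movesB L vecThree = true) ∧
    (∀ L ∈ ([[], [genG]] : List (List Gen)), L ∈ centWords) ∧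
    zThree.all Gen.ok = true ∧ sendsB zThree vecThree vecThree = true ∧
    isOneB (zThree ++ zThree) = true ∧
    eqB (zThree ++ [genY]) (List.replicate 1 genY ++ zThree) = true ∧
    eqB (zThree ++ [genT]) ([genT] ++ zThree) = true ∧ notScalarB zThree 23 = true := by
  decide +kernel

theorem kThree_checks : kThree.all Gen.ok = true ∧ sendsB kThree (unitV 8 23) wThree = true ∧
    (fixersV wThree).length ≤ 720 := by
  decide +kernel

theorem co3_inner (φ : MulAut co3Grp) : φ ∈ Inn co3Grp := by
  obtain ⟨h1, h2, h3, h4, h5, h6, h7, h8⟩ := three_checks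
  obtain ⟨k1, k2, k3⟩ := kThree_checks
  refine inner_of_stab baseU_dec (n := 48) (by norm_num) baseU_norm baseU_fix co3Grp_simple
    (by rw [card_stab_baseU]; norm_num) [[], [genG]] h2 h1 zThree h3 h4 h5 1 h6 h7
    ⟨23, by norm_num, h8⟩ (fun L hL => by simpa [zThree] using hL) kThree k1 [5, 2, 17] rfl k2 k3
    (by rw [card_stab_baseU]; norm_num) (by rw [card_stab_baseU]; norm_num) φ

end Cfsg.Agent.ConwayOut
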