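import Cfsg.Agent.Lib.ConwayOut.Fixed

/-!
# Automorphisms of the stabiliser of a norm 32 vector

`co2_inner`: they are inner.
-/

set_option autoImplicit false
set_option maxRecDepth 20000

namespace Cfsg.Agent.ConwayOut

open Cfsg Cfsg.Agent.Leech MulAction

/-- The norm 32 vector `(-3, 1^23)`. -/
def vTwo : leechLattice :=
  ⟨fun p => if p = none then -3 else 1, AddSubgroup.subset_closure
    (Spor.mem_leechSet_of_const_mod_four _ 1 1 (by decide) (by decide) (by decide))⟩

theorem vTwo_norm : sqNorm (vTwo : GolayPt → ℤ) = 32 := by decide +kernel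

theorem vTwo_dec : ((vTwo : leechLattice) : GolayPt → ℤ) = dec8 vecTwo := by
  funext p; revert p; decide +kernel

theorem vTwo_fix (m : Spor.M23) : perm0 m • vTwo = vTwo :=
  perm0_fix_const (c := 1) (fun p hp => by
    show (if p = none then (-3 : ℤ) else 1) = 1
    rw [if_neg hp]) m

/-- The involution inverting `Y` and commuting with `T`. -/
def zTwo : List Gen := [genG, genD, genP]

/-- A word moving `8 e∞` into a long orbit. -/
def kTwo : List Gen := [22, 21].foldl (fun w a => zTwo ++ (List.replicate a genX ++ w)) zTwo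

/-- The image of `8 e∞`. -/
def wTwo : ℕ := 0x84807e8080808080807e80807e80807e7e807c807e808282

theorem two_checks : (∀ L ∈ centWords, L ∈ [[]] ∨ movesB L vecTwo = true) ∧
    (∀ L ∈ ([[]] : List (List Gen)), L ∈ centWords) ∧
    zTwo.all Gen.ok = true ∧ sendsB zTwo vecTwo vecTwo = true ∧
    isOneB (zTwo ++ zTwo) = true ∧
    eqB (zTwo ++ [genY]) (List.replicate 10 genY ++ zTwo) = true ∧
    eqB (zTwo ++ [genT]) ([genT] ++ zTwo) = true ∧ notScalarB zTwo 23 = true := by
  decide +kernel

theorem kTwo_checks : kTwo.all Gen.ok = true ∧ sendsB kTwo (unitV 8 23) wTwo = true ∧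
    (fixersV wTwo).length ≤ 48 := by
  decide +kernel

theorem co2_inner (φ : MulAut (stabilizer Co0 vTwo)) : φ ∈ Inn (stabilizer Co0 vTwo) := by
  obtain ⟨hs, hc⟩ := isCo2_stabilizer vTwo_norm
  obtain ⟨h1, h2, h3, h4, h5, h6, h7, h8⟩ := two_checks
  obtain ⟨k1, k2, k3⟩ := kTwo_checks
  refine inner_of_stab vTwo_dec (n := 32) (by norm_num) vTwo_norm vTwo_fix hs
    (by rw [hc]; norm_num) [[]] h2 h1 zTwo h3 h4 h5 10 h6 h7
    ⟨23, by norm_num, h8⟩ (fun L hL => Or.inl (by simpa using hL)) kTwo k1 [22, 21] rfl k2 k3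
    (by rw [hc]; norm_num) (by rw [hc]; norm_num) φ

theorem co2_out : Nat.card (Cfsg.Out ↥Spor.Co2) = 1 := by
  obtain ⟨g, hg⟩ := co0_transitive vTwo Spor.leechU 32 (Or.inl rfl) vTwo_norm leechU_facts.1
  exact card_out_transfer ((stabilizerEquivStabilizer hg.symm).trans (infEquiv _)) co2_inner

end Cfsg.Agent.ConwayOut
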