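import Cfsg.Agent.Lib.Leech.OrbitEngine
import Cfsg.Agent.Lib.Leech.Simple
import Cfsg.Agent.Lib.Mathieu.Rigid

/-!
# Evaluating words of `Co0` in the kernel

An element given by signed permutations with Conway's map between them (`Gen`) is evaluated on
packed vectors, one byte for a coordinate; equalities of products are then decidable on `8 eᵢ`.

* `el`, `wordEl`: the element of a generator, of a word;
* `sendsB`, `isOneB`, `isNegB`, `notScalarB`: checks and their meaning;
* `permHom_eq_el`, `signElt_eq_el`.
-/

set_option autoImplicit false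
set_option maxHeartbeats 200000

namespace Cfsg.Agent.ConwayOut

open Cfsg Cfsg.Agent.Leech

/-- Coordinate number `n` of a packed vector: byte minus 128. -/
def dig8 (V n : ℕ) : ℤ := ((Mathieu.appS V n : ℕ) : ℤ) - 128

/-- The packed vector. -/
def dec8 (V : ℕ) : GolayPt → ℤ := fun p => dig8 V (Mathieu.ptEnc p).val

/-- Pack coordinates. -/
def pack8 (f : ℕ → ℤ) : ℕ := (List.range 24).foldr (fun i acc => (f i + 128).toNat + 256 * acc) 0

/-- Pack and verify. -/
def stepTo (f : ℕ → ℤ) : Option ℕ :=
  Mathieu.force (pack8 f) fun W => if (List.range 24).all (fun n => dig8 W n == f n) then some W else none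

theorem stepTo_spec {f : ℕ → ℤ} {W : ℕ} (h : stepTo f = some W) : ∀ n < 24, dig8 W n = f n := by
  simp only [stepTo, Mathieu.force_eq] at h
  split_ifs at h with hc
  · obtain rfl := Option.some.inj h
    simp only [List.all_eq_true, List.mem_range, beq_iff_eq] at hc
    exact hc

/-- The image of a packed vector. -/
def evalG : Gen → ℕ → Option ℕ
  | [], V => some V
  | [m], V => stepTo (monoN m (dig8 V))
  | m :: rest, V => (stepTo (monoN m (dig8 V))).bind fun W =>
      (stepTo (xiN (dig8 W))).bind fun W' => evalG rest W'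

/-- The element of a signed permutation. -/
noncomputable def elM (m : ℕ × ℕ) : Co0 := if h : monoOK m = true then (exists_mono h).choose else 1

theorem elM_smul {m : ℕ × ℕ} (h : monoOK m = true) (f : ℕ → ℤ) (v : leechLattice)
    (hv : (v : GolayPt → ℤ) = fun p => f (Mathieu.ptEnc p).val) :
    ((elM m • v : leechLattice) : GolayPt → ℤ) = fun p => monoN m f (Mathieu.ptEnc p).val := by
  rw [elM, dif_pos h]
  exact (exists_mono h).choose_spec f v hv

/-- The element of a generator. -/
noncomputable def el : Gen → Co0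
  | [] => 1
  | [m] => elM m
  | m :: rest => el rest * xiElt * elM m

theorem evalG_one (m : ℕ × ℕ) (V : ℕ) : evalG [m] V = stepTo (monoN m (dig8 V)) := by
  rw [evalG]

theorem evalG_cons (m m' : ℕ × ℕ) (rest : List (ℕ × ℕ)) (V : ℕ) :
    evalG (m :: m' :: rest) V = (stepTo (monoN m (dig8 V))).bind fun W =>
      (stepTo (xiN (dig8 W))).bind fun W' => evalG (m' :: rest) W' := by
  rw [evalG]
  simp

theorem el_cons (m m' : ℕ × ℕ) (rest : List (ℕ × ℕ)) :
    el (m :: m' :: rest) = el (m' :: rest) * xiElt * elM m := by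
  rw [el]
  simp

theorem evalG_spec (g : Gen) (hok : g.ok = true) : ∀ (V W : ℕ) (v : leechLattice),
    (v : GolayPt → ℤ) = dec8 V → evalG g V = some W →
      ((el g • v : leechLattice) : GolayPt → ℤ) = dec8 W := by
  induction g with
  | nil =>
    intro V W v hv h
    rw [evalG, Option.some.injEq] at h
    rw [el, one_smul, hv, h]
  | cons m rest ih =>
    intro V W v hv h
    rw [Gen.ok, List.all_cons, Bool.and_eq_true] at hok
    cases rest with
    | nil =>
      rw [evalG_one] at h
      rw [show el [m] = elM m by rw [el], elM_smul hok.1 (dig8 V) v hv]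
      funext p
      exact (stepTo_spec h _ (Mathieu.ptEnc p).isLt).symm
    | cons m' rest =>
      simp only [evalG_cons, Option.bind_eq_some_iff] at h
      obtain ⟨W1, h1, W2, h2, h3⟩ := h
      rw [el_cons, mul_smul, mul_smul]
      refine ih hok.2 W2 W _ ?_ h3
      have e1 : (fun p => monoN m (dig8 V) (Mathieu.ptEnc p).val) =
          fun p => dig8 W1 (Mathieu.ptEnc p).val :=
        funext fun p => (stepTo_spec h1 _ (Mathieu.ptEnc p).isLt).symm
      rw [xiElt_smul, elM_smul hok.1 (dig8 V) v hv, e1, xiN_spec]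
      funext p
      exact (stepTo_spec h2 _ (Mathieu.ptEnc p).isLt).symm

/-- A word: the last member acts first. -/
def evalW : List Gen → ℕ → Option ℕ
  | [], V => some V
  | g :: L, V => (evalW L V).bind (evalG g)

/-- The element of a word. -/
noncomputable def wordEl (L : List Gen) : Co0 := (L.map el).prod

theorem wordEl_nil : wordEl [] = 1 := rfl

theorem wordEl_cons (g : Gen) (L : List Gen) : wordEl (g :: L) = el g * wordEl L := by
  simp [wordEl]

theorem wordEl_append (L L' : List Gen) : wordEl (L ++ L') = wordEl L * wordEl L' := by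
  simp [wordEl]

theorem wordEl_singleton (g : Gen) : wordEl [g] = el g := by simp [wordEl]

theorem evalW_spec : ∀ (L : List Gen), L.all Gen.ok = true → ∀ (V W : ℕ) (v : leechLattice),
    (v : GolayPt → ℤ) = dec8 V → evalW L V = some W →
      ((wordEl L • v : leechLattice) : GolayPt → ℤ) = dec8 W
  | [], _, V, W, v, hv, h => by
    obtain rfl : V = W := Option.some.inj h
    rw [wordEl_nil, one_smul]; exact hv
  | g :: L, hok, V, W, v, hv, h => by
    rw [List.all_cons, Bool.and_eq_true] at hok
    simp only [evalW, Option.bind_eq_some_iff] at h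
    obtain ⟨U, h1, h2⟩ := h
    rw [wordEl_cons, mul_smul]
    exact evalG_spec g hok.1 U W _ (evalW_spec L hok.2 V U v hv h1) h2

/-- The word is defined on `V` and sends it to the coordinates of `W`. -/
def sendsB (L : List Gen) (V W : ℕ) : Bool :=
  match evalW L V with
  | none => false
  | some U => (List.range 24).all fun n => dig8 U n == dig8 W n

theorem sendsB_spec {L : List Gen} (hok : L.all Gen.ok = true) {V W : ℕ} (h : sendsB L V W = true)
    {v : leechLattice} (hv : (v : GolayPt → ℤ) = dec8 V) :
    ((wordEl L • v : leechLattice) : GolayPt → ℤ) = dec8 W := by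
  simp only [sendsB] at h
  split at h
  · simp at h
  · rename_i U hU
    rw [evalW_spec L hok V U v hv hU]
    simp only [List.all_eq_true, List.mem_range, beq_iff_eq] at h
    funext p
    exact h _ (Mathieu.ptEnc p).isLt

/-- The vector `s` at coordinate number `i`, zero elsewhere. -/
def unitV (s : ℤ) (i : ℕ) : ℕ := pack8 fun n => if n == i then s else 0

theorem unitV_spec : ∀ p : GolayPt,
    (∀ q, dec8 (unitV 8 (Mathieu.ptEnc p).val) q = if q = p then 8 else 0) ∧
      ∀ q, dec8 (unitV (-8) (Mathieu.ptEnc p).val) q = if q = p then -8 else 0 := by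
  decide +kernel

theorem dec8_unitV (p : GolayPt) :
    dec8 (unitV 8 (Mathieu.ptEnc p).val) = ((eight p : leechLattice) : GolayPt → ℤ) := by
  funext q
  rw [(unitV_spec p).1 q, eight_val, Pi.single_apply]

theorem dec8_unitV_neg (p : GolayPt) :
    dec8 (unitV (-8) (Mathieu.ptEnc p).val) = ((-eight p : leechLattice) : GolayPt → ℤ) := by
  funext q
  rw [(unitV_spec p).2 q, NegMemClass.coe_neg, Pi.neg_apply, eight_val, Pi.single_apply]
  split_ifs <;> simp

/-- The word is the identity. -/
def isOneB (L : List Gen) : Bool :=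
  (List.range 24).all fun i => sendsB L (unitV 8 i) (unitV 8 i)

theorem isOneB_spec {L : List Gen} (hok : L.all Gen.ok = true) (h : isOneB L = true) :
    wordEl L = 1 := by
  simp only [isOneB, List.all_eq_true, List.mem_range] at h
  refine co0_ext _ _ fun p => Subtype.ext ?_
  rw [sendsB_spec hok (h _ (Mathieu.ptEnc p).isLt) (dec8_unitV p).symm, one_smul, dec8_unitV]

/-- The word is minus the identity. -/
def isNegB (L : List Gen) : Bool :=
  (List.range 24).all fun i => sendsB L (unitV 8 i) (unitV (-8) i)

theorem isNegB_spec {L : List Gen} (hok : L.all Gen.ok = true) (h : isNegB L = true) :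
    wordEl L = negElt := by
  simp only [isNegB, List.all_eq_true, List.mem_range] at h
  refine co0_ext _ _ fun p => Subtype.ext ?_
  rw [sendsB_spec hok (h _ (Mathieu.ptEnc p).isLt) (dec8_unitV p).symm, negElt_smul, dec8_unitV_neg]

/-- At `8 eᵢ` the word differs from both scalars. -/
def notScalarB (L : List Gen) (i : ℕ) : Bool :=
  match evalW L (unitV 8 i) with
  | none => false
  | some U => ((List.range 24).any fun n => dig8 U n != dig8 (unitV 8 i) n) &&
      (List.range 24).any fun n => dig8 U n != dig8 (unitV (-8) i) n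

theorem notScalarB_spec {L : List Gen} (hok : L.all Gen.ok = true) {i : ℕ} (hi : i < 24)
    (h : notScalarB L i = true) : wordEl L ≠ 1 ∧ wordEl L ≠ negElt := by
  simp only [notScalarB] at h
  split at h
  · simp at h
  · rename_i U hU
    simp only [Bool.and_eq_true, List.any_eq_true, List.mem_range, bne_iff_ne] at h
    obtain ⟨⟨n, hn, h1⟩, ⟨m, hm, h2⟩⟩ := h
    obtain ⟨p, rfl⟩ : ∃ p, (Mathieu.ptEnc p).val = i := ⟨Mathieu.ptEnc.symm ⟨i, hi⟩, by simp⟩
    obtain ⟨q, rfl⟩ : ∃ p, (Mathieu.ptEnc p).val = n := ⟨Mathieu.ptEnc.symm ⟨n, hn⟩, by simp⟩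
    obtain ⟨r, rfl⟩ : ∃ p, (Mathieu.ptEnc p).val = m := ⟨Mathieu.ptEnc.symm ⟨m, hm⟩, by simp⟩
    have e := evalW_spec L hok _ U _ (dec8_unitV p).symm hU
    constructor <;> intro he <;> rw [he] at e
    · rw [one_smul, ← dec8_unitV] at e
      exact h1 (congrFun e q).symm
    · rw [negElt_smul, ← dec8_unitV_neg] at e
      exact h2 (congrFun e r).symm

/-- Permutations as elements. -/
theorem permHom_eq_el {σ : M24} {m : ℕ} (h : Mathieu.Rep Mathieu.ptEnc (σ : Equiv.Perm GolayPt)⁻¹ m)
    (hok : monoOK (m, 0) = true) : permHom σ = el [(m, 0)] := by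
  refine eq_of_smul_eq_smul (α := leechLattice) fun v => Subtype.ext ?_
  let f : ℕ → ℤ := fun n => (v : GolayPt → ℤ) (Mathieu.idx Mathieu.ptEnc n)
  have hv : (v : GolayPt → ℤ) = fun p => f (Mathieu.ptEnc p).val := funext fun p => by
    simp only [f, Mathieu.idx_self]
  rw [el, elM_smul hok f v hv]
  funext p
  show (v : GolayPt → ℤ) ((σ : Equiv.Perm GolayPt).symm p) = _
  rw [show (σ : Equiv.Perm GolayPt).symm p = (σ : Equiv.Perm GolayPt)⁻¹ p from rfl]
  simp only [monoN, Nat.zero_testBit, Bool.false_eq_true, if_false, one_mul, f]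
  rw [← h p, Mathieu.idx_self]

/-- Sign changes as elements. -/
theorem signElt_eq_el {s m : ℕ} (hm : Mathieu.Rep Mathieu.ptEnc (1 : Equiv.Perm GolayPt) m)
    (hok : monoOK (m, s) = true) (hc : Mathieu.wordOf s ∈ golayCode) :
    signElt (Mathieu.wordOf s) hc = el [(m, s)] := by
  refine eq_of_smul_eq_smul (α := leechLattice) fun v => Subtype.ext ?_
  let f : ℕ → ℤ := fun n => (v : GolayPt → ℤ) (Mathieu.idx Mathieu.ptEnc n)
  have hv : (v : GolayPt → ℤ) = fun p => f (Mathieu.ptEnc p).val := funext fun p => by
    simp only [f, Mathieu.idx_self]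
  rw [el, elM_smul hok f v hv, signElt_smul]
  funext p
  simp only [signFun, mem_supp, monoN, Mathieu.wordOf, Mathieu.hasPt, f, ← hm p,
    Equiv.Perm.one_apply, Mathieu.idx_self]
  by_cases hb : s.testBit (Mathieu.ptEnc p).val = true <;> simp [hb]

end Cfsg.Agent.ConwayOut
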