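/-
Data for the automorphisms of the Conway groups.
-/
import Cfsg.Agent.Lib.ConwayOut.Eval

set_option autoImplicit false

namespace Cfsg.Agent.ConwayOut

open Cfsg Cfsg.Agent.Leech

/-- The identity, packed. -/
def idPack : ℕ := 0x17161514131211100f0e0d0c0b0a09080706050403020100

/-- The squares modulo 23, shifted down by one. -/
def maskQ : ℕ := 0x299af

/-- The code word `maskQ` with the fixed point 22. -/
def maskD : ℕ := 0x4299af

/-- The element of order 23. -/
def genX : Gen := [(0x171514131211100f0e0d0c0b0a0908070605040302010016, 0x0)]

/-- The element of order 11. -/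
def genY : Gen := [(0x17160a1509140813071206110510040f030e020d010c000b, 0x0)]

/-- The element of order 5. -/
def genT : Gen := [(0x171606130e140309080d12110c150a0501100704020b0f00, 0x0)]

/-- An involution of `Co0` fixing the norm 48 vector and commuting with `genY` and `genT`. -/
def genG : Gen := [(0xe09160508170d0613000a020310040714010f110b150c12, 0x6b0357), (0x110704050b0f0115171303160d000a0e02060c1410120908, 0xf70aa1), (0x9120e0a140105021100070410160c150d0b0608030f1713, 0x4bc71a), (0x110704050b0f0115171303160d000a0e02060c1410120908, 0xf70aa1), (0xf120a150d011602060e09000503100411140b130c081707, 0xe957e7), (0x110704050b0f0115171303160d000a0e02060c1410120908, 0xf70aa1), (0x9120e0a140105021100070410160c150d0b0608030f1713, 0x4bc71a), (0x110704050b0f0115171303160d000a0e02060c1410120908, 0xf70aa1), (0xc0312041301050b0e0608171114160f0d000a0915100207, 0x228817), (0x110704050b0f0115171303160d000a0e02060c1410120908, 0xf70aa1), (0x1020d09070f050b04130816031106150e140a12100c0017, 0x55c82)]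

/-- A sign change. -/
def genD : Gen := [(idPack, maskD)]

/-- Minus one. -/
def genN : Gen := [(idPack, 0xffffff)]

/-- The permutation exchanging the fixed points and inverting `genY`, as a permutation. -/
def swapPack : ℕ := 0x16171108050f15021207010a090c0b140e03130006100d04

/-- The permutation exchanging the fixed points. -/
def genP : Gen := [(0x16171108050f15021207010a090c0b140e03130006100d04, 0x0)]

/-- The norm 48 vector `(-5, -1^23)`. -/
def vecThree : ℕ := 0x7b7f7f7f7f7f7f7f7f7f7f7f7f7f7f7f7f7f7f7f7f7f7f7f

/-- The norm 32 vector `(-3, 1^23)`. -/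
def vecTwo : ℕ := 0x7d8181818181818181818181818181818181818181818181

end Cfsg.Agent.ConwayOut
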