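import Cfsg.Agent.Lib.ConwayOut.Orbit

/-!
# Outer automorphisms of vector stabilisers in `Co0`

* `card_out_transfer`, `infEquiv`;
* `inner_of_stab`: for a stabiliser of a vector fixed by `M23`, an involution normalising `⟨Y⟩` and
  centralising `T`, together with counting, leaves inner automorphisms only.
-/

set_option autoImplicit false

namespace Cfsg.Agent.ConwayOut

open Cfsg Cfsg.Agent.Leech MulAction

theorem card_out_transfer {G G' : Type*} [Group G] [Group G'] (e : G ≃* G')
    (h : ∀ φ : MulAut G, φ ∈ Inn G) : Nat.card (Cfsg.Out G') = 1 := by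
  have hsub : Subsingleton (Cfsg.Out G') := by
    refine ⟨fun a b => ?_⟩
    suffices hone : ∀ c : Cfsg.Out G', c = 1 by rw [hone a, hone b]
    intro c
    induction c using QuotientGroup.induction_on with
    | H φ =>
      rw [QuotientGroup.eq_one_iff]
      obtain ⟨g, hg⟩ := h ((e.trans φ).trans e.symm)
      refine ⟨e g, MulEquiv.ext fun x => ?_⟩
      have h1 := DFunLike.congr_fun hg (e.symm x)
      simp only [MulAut.conj_apply, MulEquiv.trans_apply, MulEquiv.apply_symm_apply] at h1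
      rw [MulAut.conj_apply, ← e.apply_symm_apply (φ x), ← h1, map_mul, map_mul, map_inv,
        MulEquiv.apply_symm_apply]
  exact Nat.card_eq_one_iff_unique.2 ⟨hsub, ⟨1⟩⟩

/-- The stabiliser in `Co0` as an intersection. -/
noncomputable def infEquiv (v : leechLattice) :
    stabilizer Co0 v ≃* ↥(Co0 ⊓ stabilizer (Equiv.Perm leechLattice) v) where
  toFun g := ⟨((g : Co0) : Equiv.Perm leechLattice), ⟨(g : Co0).2, g.2⟩⟩
  invFun g := ⟨⟨(g : Equiv.Perm leechLattice), g.2.1⟩, g.2.2⟩
  left_inv _ := rfl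
  right_inv _ := rfl
  map_mul' _ _ := rfl

/-- The copy of `M23` in a stabiliser. -/
noncomputable def stabHom {v : leechLattice} (h : ∀ m, perm0 m • v = v) :
    Spor.M23 →* stabilizer Co0 v :=
  perm0.codRestrict _ h

theorem stabHom_val {v : leechLattice} (h : ∀ m, perm0 m • v = v) (m : Spor.M23) :
    (stabHom h m : Co0) = perm0 m := rfl

theorem stabHom_injective {v : leechLattice} (h : ∀ m, perm0 m • v = v) :
    Function.Injective (stabHom h) := fun _ _ e => perm0_injective (congrArg Subtype.val e)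

theorem perm0_fix_const {v : leechLattice} {c : ℤ}
    (hc : ∀ p, p ≠ none → (v : GolayPt → ℤ) p = c) (m : Spor.M23) : perm0 m • v = v := by
  refine Subtype.ext (funext fun p => ?_)
  rw [perm0_smul]
  have hn : (m : Equiv.Perm GolayPt).symm none = none :=
    (Equiv.symm_apply_eq _).2 (Mathieu.mem_M23_iff.1 m.2).2.symm
  by_cases hp : p = none
  · rw [hp, hn]
  · rw [hc p hp, hc _ fun e => hp ((m : Equiv.Perm GolayPt).symm.injective (e.trans hn.symm))]

theorem neg_ne_self {v : leechLattice} {n : ℤ} (hn : n ≠ 0)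
    (hv : sqNorm (v : GolayPt → ℤ) = n) : -v ≠ v := by
  intro e
  apply hn
  rw [← hv, sqNorm]
  refine Finset.sum_eq_zero fun i _ => ?_
  have := congrArg (fun w : leechLattice => (w : GolayPt → ℤ) i) e
  simp only [NegMemClass.coe_neg, Pi.neg_apply] at this
  rw [show (v : GolayPt → ℤ) i = 0 by omega]
  rfl

theorem inclusion_X : Subgroup.inclusion Mathieu.M23_le_M24 X = trElt := by
  have h : ∀ p : GolayPt, (Mathieu.ptEnc ((trElt : Equiv.Perm GolayPt) p)).val =
      Mathieu.app Mathieu.rigid23.x (Mathieu.ptEnc p).val := by decide +kernel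
  exact Subtype.ext (rep_X.unique h)

theorem perm0_X_eq : perm0 X = x23 := by
  rw [x23, ← inclusion_X]
  rfl

/-- What commutes with `X` and fixes a nonzero vector. -/
theorem cent_X_stab {v : leechLattice} {n : ℤ} (hn : n ≠ 0) (hv : sqNorm (v : GolayPt → ℤ) = n)
    (h : ∀ m, perm0 m • v = v) (g : stabilizer Co0 v) (hg : g * stabHom h X = stabHom h X * g) :
    ∃ k, k < 23 ∧ g = stabHom h X ^ k := by
  have hg' : (g : Co0) * x23 = x23 * g := by
    rw [← perm0_X_eq]; exact congrArg Subtype.val hg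
  obtain ⟨j, hj | hj⟩ := cent_x23 hg'
  · refine ⟨j % 23, Nat.mod_lt _ (by norm_num), Subtype.ext ?_⟩
    rw [SubgroupClass.coe_pow, stabHom_val, perm0_X_eq, hj]
    exact (orderOf_x23 ▸ pow_mod_orderOf x23 j).symm
  · exfalso
    have h1 : (g : Co0) • v = v := g.2
    have h2 : x23 ^ j • v = v := by rw [← perm0_X_eq, ← map_pow]; exact h _
    rw [hj, mul_smul, h2, negElt_smul] at h1
    exact neg_ne_self hn hv h1

theorem pow_commute_T {i : ℕ} (hi : i < 11) (h : Y ^ i * T = T * Y ^ i) : i = 0 := by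
  have hd : ∀ i < 11, i = 0 ∨ Mathieu.samePack 24
      (Mathieu.packMul 24 (Mathieu.packPow 24 Mathieu.rigid23.y i) Mathieu.rigid23.t)
      (Mathieu.packMul 24 Mathieu.rigid23.t (Mathieu.packPow 24 Mathieu.rigid23.y i)) = false := by
    decide +kernel
  rcases hd i hi with h0 | h0
  · exact h0
  · have h1 := rep_mul (rep_pow rep_Y i) rep_T
    rw [h] at h1
    rw [h1.same (rep_mul rep_T (rep_pow rep_Y i))] at h0
    exact absurd h0 (by simp)

/-- An automorphism fixing `M23` moves an element normalising `⟨Y⟩` and centralising `T` inside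
its coset of `E`. -/
theorem conj_fix {H : Type*} [Group H] (ι : Spor.M23 →* H) (hι : Function.Injective ι) (E : Set H)
    (hY : ∀ c : H, c * ι Y = ι Y * c → ∃ i < 11, ∃ e ∈ E, c = ι Y ^ i * e)
    (hET : ∀ e ∈ E, Commute e (ι T)) {ψ : MulAut H} (hψ : ∀ m, ψ (ι m) = ι m) {z : H} {b : ℕ}
    (hzT : Commute z (ι T)) (hzY : z * ι Y = ι Y ^ b * z) : ∃ e ∈ E, ψ z = z * e := by
  have h1 : ψ z * ι Y = ι Y ^ b * ψ z := by
    have := congrArg ψ hzY
    rwa [map_mul, map_mul, map_pow, hψ] at this
  have h2 : Commute (ψ z) (ι T) := by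
    have := congrArg ψ hzT.eq
    rwa [map_mul, map_mul, hψ] at this
  have h3 : z⁻¹ * ι Y ^ b = ι Y * z⁻¹ := by
    rw [inv_mul_eq_iff_eq_mul, ← mul_assoc, hzY, mul_inv_cancel_right]
  obtain ⟨i, hi, e, he, hc⟩ := hY (z⁻¹ * ψ z) (by rw [mul_assoc, h1, ← mul_assoc, h3, mul_assoc])
  have h4 : Commute (ι Y ^ i * e) (ι T) := hc ▸ (hzT.inv_left.mul_left h2)
  have h5 : Commute (ι Y ^ i) (ι T) := by
    have := h4.mul_left (hET e he).inv_left
    rwa [mul_inv_cancel_right] at this
  obtain rfl : i = 0 := pow_commute_T hi (hι (by rw [map_mul, map_mul, map_pow]; exact h5.eq))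
  exact ⟨e, he, by rw [pow_zero, one_mul] at hc; rw [← hc, mul_inv_cancel_left]⟩

/-- The abstract conclusion. -/
theorem inner_of_stab {v : leechLattice} {V : ℕ} (hV : (v : GolayPt → ℤ) = dec8 V) {n : ℤ}
    (hn : n ≠ 0) (hv : sqNorm (v : GolayPt → ℤ) = n) (hfix : ∀ m, perm0 m • v = v)
    (hsimple : IsSimpleGroup (stabilizer Co0 v))
    (hp2 : ¬ 23 ^ 2 ∣ Nat.card (stabilizer Co0 v))
    (ws : List (List Gen)) (hws : ∀ L ∈ ws, L ∈ centWords)
    (hsplit : ∀ L ∈ centWords, L ∈ ws ∨ movesB L V = true)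
    (z : List Gen) (hz : z.all Gen.ok = true) (hzv : sendsB z V V = true)
    (hzsq : isOneB (z ++ z) = true) (b : ℕ)
    (hzY : eqB (z ++ [genY]) (List.replicate b genY ++ z) = true)
    (hzT : eqB (z ++ [genT]) ([genT] ++ z) = true)
    (hzne : ∃ i, i < 24 ∧ notScalarB z i = true)
    (hwz : ∀ L ∈ ws, L = [] ∨ L = z)
    (k : List Gen) (hkok : k.all Gen.ok = true) (labels : List ℕ)
    (hkdef : k = labels.foldl (fun w a => z ++ (List.replicate a genX ++ w)) z) {W N : ℕ}
    (hW : sendsB k (unitV 8 23) W = true) (hN : (fixersV W).length ≤ N)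
    (h23 : 23 ∣ Nat.card (stabilizer Co0 v))
    (hlt : Nat.card (stabilizer Co0 v) * N < 23 * (10200960 * 10200960))
    (φ : MulAut (stabilizer Co0 v)) : φ ∈ Inn (stabilizer Co0 v) := by
  set ι := stabHom hfix
  have hι := stabHom_injective hfix
  set E : Set (stabilizer Co0 v) := {e | ∃ L ∈ ws, (e : Co0) = wordEl L} with hE
  have hY : ∀ c : stabilizer Co0 v, c * ι Y = ι Y * c →
      ∃ i < 11, ∃ e ∈ E, c = ι Y ^ i * e := by
    intro c hc
    obtain ⟨i, hi, L, hL, e⟩ := cent_Y (congrArg Subtype.val hc)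
    have hLv : wordEl L • v = v := by
      have h1 : perm0 Y ^ i • (wordEl L • v) = perm0 Y ^ i • v := by
        rw [← mul_smul, ← e, ← map_pow, hfix, mem_stabilizer_iff.1 c.2]
      exact smul_left_cancel _ h1
    rcases hsplit L hL with h | h
    · exact ⟨i, hi, ⟨wordEl L, mem_stabilizer_iff.2 hLv⟩, ⟨L, h, rfl⟩, Subtype.ext e⟩
    · exact absurd hLv (movesB_spec (centWords_ok L hL) h hV)
  have hEY : ∀ e ∈ E, Commute e (ι Y) := fun e ⟨L, hL, he⟩ => Subtype.ext <| by
    show (e : Co0) * perm0 Y = perm0 Y * e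
    rw [he]; exact (centWords_comm L (hws L hL)).1.eq
  have hET : ∀ e ∈ E, Commute e (ι T) := fun e ⟨L, hL, he⟩ => Subtype.ext <| by
    show (e : Co0) * perm0 T = perm0 T * e
    rw [he]; exact (centWords_comm L (hws L hL)).2.eq
  have hzz : wordEl z * wordEl z = 1 := by
    rw [← wordEl_append]
    exact isOneB_spec (by rw [List.all_append, hz]; rfl) hzsq
  have hcases : ∀ e ∈ E, (e : Co0) = 1 ∨ (e : Co0) = wordEl z := by
    rintro e ⟨L, hL, he⟩
    rcases hwz L hL with rfl | rfl
    · exact Or.inl he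
    · exact Or.inr he
  have hE5 : ∀ e ∈ E, e ^ 5 = 1 → e = 1 := by
    intro e he h5
    refine Subtype.ext ?_
    rcases hcases e he with h | h
    · exact h
    · have h5' : (e : Co0) ^ 5 = 1 := congrArg Subtype.val h5
      rw [h, show 5 = 2 * 2 + 1 from rfl, pow_succ, pow_mul, pow_two (wordEl z), hzz, one_pow,
        one_mul] at h5'
      rw [h, h5']; rfl
  obtain ⟨ψ, hψ, hψι⟩ := exists_fix ι hι hp2 (cent_X_stab hn hv hfix) E hY hEY hET hE5 φ
  have hzmem : wordEl z • v = v := Subtype.ext ((sendsB_spec hz hzv hV).trans hV.symm)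
  let zz : stabilizer Co0 v := ⟨wordEl z, mem_stabilizer_iff.2 hzmem⟩
  have hok1 : ∀ g ∈ [genX, genY, genT], g.ok = true := fun g hg => gens_ok g (by
    simp only [List.mem_cons, List.not_mem_nil, or_false] at hg ⊢; tauto)
  have hrepl : ∀ a, (List.replicate a genX).all Gen.ok = true ∧
      (List.replicate a genY).all Gen.ok = true := by
    intro a
    simp only [List.all_eq_true, List.mem_replicate]
    exact ⟨fun g hg => hg.2 ▸ hok1 genX (by simp), fun g hg => hg.2 ▸ hok1 genY (by simp)⟩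
  have hwrepl : ∀ (a : ℕ) (g : Gen), wordEl (List.replicate a g) = wordEl [g] ^ a := by
    intro a g
    rw [wordEl, List.map_replicate, List.prod_replicate, wordEl_singleton]
  have hT' : Commute zz (ι T) := Subtype.ext <| by
    show wordEl z * perm0 T = perm0 T * wordEl z
    rw [perm0_T, ← wordEl_append, ← wordEl_append]
    exact eqB_spec (by rw [List.all_append, hz, List.all_cons, hok1 genT (by simp)]; rfl)
      (by rw [List.all_append, hz, List.all_cons, hok1 genT (by simp)]; rfl) hzT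
  have hY' : zz * ι Y = ι Y ^ b * zz := Subtype.ext <| by
    show wordEl z * perm0 Y = perm0 Y ^ b * wordEl z
    rw [perm0_Y, ← hwrepl, ← wordEl_append, ← wordEl_append]
    exact eqB_spec (by rw [List.all_append, hz, List.all_cons, hok1 genY (by simp)]; rfl)
      (by rw [List.all_append, hz, (hrepl b).2]; rfl) hzY
  obtain ⟨e, he, hψz⟩ := conj_fix ι hι E hY hET hψι hT' hY'
  have hψz1 : ψ zz = zz := by
    rcases hcases e he with h | h
    · rw [hψz, show e = 1 from Subtype.ext h, mul_one]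
    · exfalso
      have h1 : ψ zz = ψ 1 := by
        rw [hψz, map_one]
        refine Subtype.ext ?_
        show wordEl z * (e : Co0) = 1
        rw [h, hzz]
      obtain ⟨i, hi, hns⟩ := hzne
      exact (notScalarB_spec hz hi hns).1 (congrArg Subtype.val (ψ.injective h1))
  let K : Subgroup (stabilizer Co0 v) := ψ.toMonoidHom.eqLocus (MonoidHom.id _)
  have hM : ∀ m, ι m ∈ K := hψι
  have hzK : zz ∈ K := hψz1
  have hkmem : ∃ kk ∈ K, ((kk : stabilizer Co0 v) : Co0) = wordEl k := by
    rw [hkdef]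
    have hgen : ∀ (ls : List ℕ) (w : List Gen), (∃ kk ∈ K, ((kk : stabilizer Co0 v) : Co0) = wordEl w) →
        ∃ kk ∈ K, ((kk : stabilizer Co0 v) : Co0) =
          wordEl (ls.foldl (fun w a => z ++ (List.replicate a genX ++ w)) w) := by
      intro ls
      induction ls with
      | nil => intro w h; exact h
      | cons a ls ih =>
        intro w ⟨kk, hkk, he⟩
        refine ih _ ⟨zz * (ι X ^ a * kk), K.mul_mem hzK (K.mul_mem (K.pow_mem (hM X) a) hkk), ?_⟩
        rw [wordEl_append, wordEl_append, hwrepl, ← perm0_X, ← he]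
        rfl
    exact hgen labels z ⟨zz, hzK, rfl⟩
  obtain ⟨kk, hkk, hke⟩ := hkmem
  have hnone : (Mathieu.ptEnc (none : GolayPt)).val = 23 := by decide +kernel
  have hbound := card_sq_le ι (fun _ => rfl) K hM hkk
    (hke ▸ sendsB_spec hkok hW (by have := dec8_unitV none; rw [hnone] at this; exact this.symm)) hN
  rw [Mathieu.card_M23] at hbound
  have hKtop : K = ⊤ := eq_top_of_card K h23 (by
    by_contra hle
    rw [not_lt] at hle
    have h1 := Nat.mul_le_mul_right N hle
    nlinarith)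
  have hψ1 : ψ = 1 := MulEquiv.ext fun g => (hKtop ▸ Subgroup.mem_top g : g ∈ K)
  rw [hψ1, QuotientGroup.mk_one] at hψ
  exact (QuotientGroup.eq_one_iff φ).1 hψ.symm

end Cfsg.Agent.ConwayOut
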