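import Cfsg.Agent.Lib.ConwayOut.Cent

/-!
# The fixed subgroup is large

* `searchV`: all elements of `M23` fixing a packed vector, by a pruned search;
* `card_sq_le`: a subgroup containing `M23` and an element moving the standard cross vector is large;
* `eq_top_of_card`: in a simple group a subgroup of index below 23 is everything.
-/

set_option autoImplicit false
set_option maxRecDepth 20000

namespace Cfsg.Agent.ConwayOut

open Cfsg Cfsg.Agent.Leech Cfsg.Agent.Mathieu MulAction

/-- All candidates for elements of the chain fixing the packed vector. -/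
def searchV (W : ℕ) : List CertLevel → ℕ → List ℕ
  | [], acc => [acc]
  | p :: rest, acc => p.2.2.flatMap fun t =>
      if appS W (appS acc (appS t p.1)) == appS W p.1 then
        force (packMulS 24 acc t) fun a => searchV W rest a
      else []

/-- The elements of `M23` fixing the packed vector. -/
def fixersV (W : ℕ) : List ℕ :=
  (searchV W levels23 (packId 24)).filter fun g =>
    (List.range 24).all fun i => appS W (appS g i) == appS W i

theorem mem_searchV {H : Subgroup (Equiv.Perm GolayPt)} (W : ℕ) :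
    ∀ (levels : List CertLevel) (fixed : List ℕ) (K : Subgroup (Equiv.Perm GolayPt)),
      (∀ i ∈ fixed, i < 24) → (∀ σ ∈ H, (∀ i ∈ fixed, σ (idx ptEnc i) = idx ptEnc i) → σ ∈ K) →
      (∀ σ ∈ K, ∀ i ∈ fixed, σ (idx ptEnc i) = idx ptEnc i) →
      levelsOK 24 fixed levels = true → (∀ t ∈ allReps levels, ∃ σ ∈ H, Rep ptEnc σ t) →
      Upper ptEnc K levels → fixList K (levels.map fun p => idx ptEnc p.1) = ⊥ →
      ∀ (A : Equiv.Perm GolayPt) (acc : ℕ), Rep ptEnc A acc → ∀ r ∈ K,
        (∀ p, app W (ptEnc ((A * r) p)).val = app W (ptEnc p).val) →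
          ∃ l ∈ searchV W levels acc, Rep ptEnc (A * r) l := by
  intro levels
  induction levels with
  | nil =>
    intro fixed K _ _ _ _ _ _ hbot A acc hA r hr _
    simp only [List.map_nil, fixList] at hbot
    rw [hbot, Subgroup.mem_bot] at hr
    exact ⟨acc, by simp [searchV], by rwa [hr, mul_one]⟩
  | cons p rest ih =>
    obtain ⟨b, orb, ts⟩ := p
    intro fixed K hfx hK hKfix hok hrep hup hbot A acc hA r hr hinv
    simp only [levelsOK, Bool.and_eq_true, decide_eq_true_eq, beq_iff_eq,
      List.all_eq_true] at hok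
    obtain ⟨⟨⟨⟨⟨hb, -⟩, -⟩, hmap⟩, hfix⟩, hrest⟩ := hok
    have hx := hup.1 r hr
    obtain ⟨t, ht, htb⟩ : ∃ t ∈ ts, app t b = (ptEnc (r (idx ptEnc b))).val := by
      rw [← hmap] at hx; simpa using hx
    obtain ⟨σ, hσH, hσ⟩ := hrep t (List.mem_flatMap.2 ⟨(b, orb, ts), List.mem_cons_self, ht⟩)
    have hσK : σ ∈ K := hK σ hσH (fun i hi => by rw [hσ.apply_idx (hfx i hi), hfix t ht i hi])
    have hσr : r (idx ptEnc b) = σ (idx ptEnc b) := by rw [hσ.apply_idx hb, htb, idx_self]
    have hmem : σ⁻¹ * r ∈ K ⊓ MulAction.stabilizer (Equiv.Perm GolayPt) (idx ptEnc b) := by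
      refine ⟨K.mul_mem (K.inv_mem hσK) hr, ?_⟩
      change σ.symm (r (idx ptEnc b)) = idx ptEnc b
      rw [Equiv.symm_apply_eq, hσr]
    have hfx' : ∀ i ∈ b :: fixed, i < 24 := by
      intro i hi; rcases List.mem_cons.1 hi with rfl | hi; exacts [hb, hfx i hi]
    have hprod : A * σ * (σ⁻¹ * r) = A * r := by group
    have hgood : (appS W (appS acc (appS t b)) == appS W b) = true := by
      have h1 := hinv (idx ptEnc b)
      rw [Equiv.Perm.mul_apply, hσr, hA _, hσ _, idx_val hb] at h1
      simpa [appS_eq] using h1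
    obtain ⟨l, hl, hlr⟩ := ih (b :: fixed) _ hfx'
      (fun τ hτ hfixτ => Subgroup.mem_inf.2
        ⟨hK τ hτ fun i hi => hfixτ i (List.mem_cons_of_mem _ hi), hfixτ b List.mem_cons_self⟩)
      (fun τ (hτ : τ ∈ K ⊓ MulAction.stabilizer (Equiv.Perm GolayPt) (idx ptEnc b)) =>
        List.forall_mem_cons.2 ⟨hτ.2, hKfix τ hτ.1⟩) hrest
      (fun t' ht' => hrep t' (by rw [allReps, List.flatMap_cons]; exact List.mem_append_right _ ht'))
      hup.2 hbot (A * σ) _ (rep_packMul hA hσ) _ hmem (by rwa [hprod])
    refine ⟨l, ?_, by rwa [hprod] at hlr⟩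
    rw [searchV, List.mem_flatMap]
    exact ⟨t, ht, by rw [if_pos hgood, force_eq, packMulS_eq]; exact hl⟩

theorem exists_fixer {g : Equiv.Perm GolayPt} (hg : g ∈ Spor.M23) {W : ℕ}
    (h : ∀ p, app W (ptEnc (g p)).val = app W (ptEnc p).val) :
    ∃ l ∈ fixersV W, Rep ptEnc g l := by
  obtain ⟨l, hl, hr⟩ := mem_searchV W levels23 [] Spor.M23 (by simp) (fun _ hσ _ => hσ) (by simp)
    stab23.ok stab23.reps stab23.upper stab23.bot 1 (packId 24) (rep_packId (by norm_num)) g hg
    (by simpa using h)
  rw [one_mul] at hr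
  refine ⟨l, List.mem_filter.2 ⟨hl, ?_⟩, hr⟩
  simp only [List.all_eq_true, List.mem_range, beq_iff_eq, appS_eq]
  intro i hi
  have := h (idx ptEnc i)
  rwa [hr _, idx_val hi] at this

theorem app_of_dec8 {W : ℕ} {p q : GolayPt} (h : dec8 W p = dec8 W q) :
    app W (ptEnc p).val = app W (ptEnc q).val := by
  simp only [dec8, dig8, appS_eq] at h
  omega

theorem card_fixer_le {w : leechLattice} {W : ℕ} (hw : (w : GolayPt → ℤ) = dec8 W) :
    Nat.card ((stabilizer Co0 w).comap perm0) ≤ (fixersV W).length := by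
  have hex : ∀ m : (stabilizer Co0 w).comap perm0,
      ∃ l : Fin (fixersV W).length, Rep ptEnc ((m : Spor.M23) : Equiv.Perm GolayPt) ((fixersV W).get l) := by
    rintro ⟨m, hm⟩
    obtain ⟨l, hl, hr⟩ := exists_fixer (g := (m : Equiv.Perm GolayPt)) m.2 (W := W) (fun p => by
      refine app_of_dec8 ?_
      have := congrArg (fun v : leechLattice => (v : GolayPt → ℤ) ((m : Equiv.Perm GolayPt) p))
        (mem_stabilizer_iff.1 hm)
      simp only [perm0_smul, Equiv.symm_apply_apply, hw] at this
      exact this.symm)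
    obtain ⟨k, rfl⟩ := List.mem_iff_get.1 hl
    exact ⟨k, hr⟩
  choose f hf using hex
  have hinj : Function.Injective f := fun a b hab => by
    refine Subtype.ext (Subtype.ext ?_)
    exact (hf a).unique (hab ▸ hf b)
  simpa using Nat.card_le_card_of_injective f hinj

/-- A subgroup with `M23` and an element sending `8 e∞` to `w` has order at least
`|M23|² / |Stab(w)|`. -/
theorem card_sq_le {v : leechLattice} (ι : Spor.M23 →* stabilizer Co0 v)
    (hι : ∀ m, ((ι m : stabilizer Co0 v) : Co0) = perm0 m) (K : Subgroup (stabilizer Co0 v))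
    (hM : ∀ m, ι m ∈ K) {k : stabilizer Co0 v} (hk : k ∈ K) {W : ℕ}
    (hW : (((k : Co0) • eight none : leechLattice) : GolayPt → ℤ) = dec8 W) {N : ℕ}
    (hN : (fixersV W).length ≤ N) :
    Nat.card Spor.M23 * Nat.card Spor.M23 ≤ N * Nat.card K := by
  set w : leechLattice := (k : Co0) • eight none with hw
  set S := (stabilizer Co0 w).comap perm0 with hS
  let F : (Spor.M23 ⧸ S) × Spor.M23 → K := fun qn =>
    ⟨ι qn.1.out * k * ι qn.2, K.mul_mem (K.mul_mem (hM _) hk) (hM _)⟩
  have hp : ∀ m : Spor.M23, perm0 m • eight none = eight none := fun m => by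
    refine Subtype.ext (funext fun p => ?_)
    rw [perm0_smul, eight_val]
    have hn : (m : Equiv.Perm GolayPt) none = none := (Mathieu.mem_M23_iff.1 m.2).2
    have hn' : (m : Equiv.Perm GolayPt).symm none = none := (Equiv.symm_apply_eq _).2 hn.symm
    by_cases hp : p = none
    · rw [hp, hn']
    · rw [Pi.single_eq_of_ne hp, Pi.single_eq_of_ne]
      intro e
      exact hp ((m : Equiv.Perm GolayPt).symm.injective (e.trans hn'.symm))
  have hF : Function.Injective F := by
    rintro ⟨q, n⟩ ⟨q', n'⟩ he
    have h1 := congrArg (fun g : K => ((g : stabilizer Co0 v) : Co0)) he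
    simp only [F, Subgroup.coe_mul, hι] at h1
    have h2 : perm0 q.out • w = perm0 q'.out • w := by
      have := congrArg (fun g : Co0 => g • eight none) h1
      simpa only [mul_smul, hp, ← hw] using this
    have hq : q = q' := by
      rw [← QuotientGroup.out_eq' q, ← QuotientGroup.out_eq' q', QuotientGroup.eq]
      show perm0 (q.out⁻¹ * q'.out) • w = w
      rw [map_mul, map_inv, mul_smul, ← h2, inv_smul_smul]
    subst hq
    exact Prod.ext rfl (perm0_injective (mul_left_cancel h1))
  have h3 := Nat.card_le_card_of_injective F hF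
  rw [Nat.card_prod] at h3
  calc Nat.card Spor.M23 * Nat.card Spor.M23
      = Nat.card S * (Nat.card (Spor.M23 ⧸ S) * Nat.card Spor.M23) := by
        rw [S.card_eq_card_quotient_mul_card_subgroup]; ring
    _ ≤ N * Nat.card K := Nat.mul_le_mul ((card_fixer_le hW).trans hN) h3

/-- A subgroup of index below 23 in a simple group of order divisible by 23 is the whole group. -/
theorem eq_top_of_card {G : Type*} [Group G] [Finite G] [IsSimpleGroup G] (K : Subgroup G)
    (h23 : 23 ∣ Nat.card G) (hlt : Nat.card G < 23 * Nat.card K) : K = ⊤ := by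
  by_contra hne
  have hcore : K.normalCore = ⊥ := by
    rcases (inferInstance : K.normalCore.Normal).eq_bot_or_eq_top with h | h
    · exact h
    · exact absurd (top_unique (h ▸ K.normalCore_le)) hne
  have hinj : Function.Injective (MulAction.toPermHom G (G ⧸ K)) := by
    rw [← MonoidHom.ker_eq_bot_iff, ← Subgroup.normalCore_eq_ker, hcore]
  have hidx : K.index < 23 := by
    have h1 := K.index_mul_card
    nlinarith [Nat.card_pos (α := K)]
  have hdvd := h23.trans (Subgroup.card_dvd_of_injective _ hinj)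
  rw [Nat.card_perm, ← Subgroup.index_eq_card] at hdvd
  exact absurd ((Nat.Prime.dvd_factorial (by norm_num)).1 hdvd) (by omega)

end Cfsg.Agent.ConwayOut
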